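import Cfsg.Agent.H15.Fi24Up.ParData
import Cfsg.Agent.H15.Fi24Up.EntryData
import Cfsg.Agent.H15.Fi24Up.InfoData0
import Cfsg.Agent.H47.Fi24.Tab.RelDef

/-!
Kernel checks of the entries of the deduction, part 0 (generated).
-/

set_option autoImplicit false
set_option maxRecDepth 100000
set_option Elab.async false

namespace H15.Fi24Up

open H47.Fi24

theorem blk0 : blockOK Tab.data.T par ec (Tab.words.take 80) 0 inf0 = true := by
  decide +kernel

theorem blk4 : blockOK Tab.data.T par ec (Tab.words.take 80) 512 inf4 = true := by
  decide +kernel

theorem blk8 : blockOK Tab.data.T par ec (Tab.words.take 80) 1024 inf8 = true := by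
  decide +kernel

theorem blk12 : blockOK Tab.data.T par ec (Tab.words.take 80) 1536 inf12 = true := by
  decide +kernel

theorem blk16 : blockOK Tab.data.T par ec (Tab.words.take 80) 2048 inf16 = true := by
  decide +kernel

theorem blk20 : blockOK Tab.data.T par ec (Tab.words.take 80) 2560 inf20 = true := by
  decide +kernel

theorem blk24 : blockOK Tab.data.T par ec (Tab.words.take 80) 3072 inf24 = true := by
  decide +kernel

theorem blk28 : blockOK Tab.data.T par ec (Tab.words.take 80) 3584 inf28 = true := by
  decide +kernel

theorem blk32 : blockOK Tab.data.T par ec (Tab.words.take 80) 4096 inf32 = true := by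
  decide +kernel

theorem blk36 : blockOK Tab.data.T par ec (Tab.words.take 80) 4608 inf36 = true := by
  decide +kernel

theorem blk40 : blockOK Tab.data.T par ec (Tab.words.take 80) 5120 inf40 = true := by
  decide +kernel

theorem blk44 : blockOK Tab.data.T par ec (Tab.words.take 80) 5632 inf44 = true := by
  decide +kernel

theorem blk48 : blockOK Tab.data.T par ec (Tab.words.take 80) 6144 inf48 = true := by
  decide +kernel

theorem blk52 : blockOK Tab.data.T par ec (Tab.words.take 80) 6656 inf52 = true := by
  decide +kernel

theorem blk56 : blockOK Tab.data.T par ec (Tab.words.take 80) 7168 inf56 = true := by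
  decide +kernel

theorem blk60 : blockOK Tab.data.T par ec (Tab.words.take 80) 7680 inf60 = true := by
  decide +kernel

theorem blk64 : blockOK Tab.data.T par ec (Tab.words.take 80) 8192 inf64 = true := by
  decide +kernel

theorem blk68 : blockOK Tab.data.T par ec (Tab.words.take 80) 8704 inf68 = true := by
  decide +kernel

theorem blk72 : blockOK Tab.data.T par ec (Tab.words.take 80) 9216 inf72 = true := by
  decide +kernel

end H15.Fi24Up
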