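import Cfsg.Agent.H15.Fi24Up.ParData
import Cfsg.Agent.H15.Fi24Up.EntryData
import Cfsg.Agent.H15.Fi24Up.InfoData1
import Cfsg.Agent.H47.Fi24.Tab.RelDef

/-!
Kernel checks of the entries of the deduction, part 1 (generated).
-/

set_option autoImplicit false
set_option maxRecDepth 100000
set_option Elab.async false

namespace H15.Fi24Up

open H47.Fi24

theorem blk1 : blockOK Tab.data.T par ec (Tab.words.take 80) 128 inf1 = true := by
  decide +kernel

theorem blk5 : blockOK Tab.data.T par ec (Tab.words.take 80) 640 inf5 = true := by
  decide +kernel

theorem blk9 : blockOK Tab.data.T par ec (Tab.words.take 80) 1152 inf9 = true := by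
  decide +kernel

theorem blk13 : blockOK Tab.data.T par ec (Tab.words.take 80) 1664 inf13 = true := by
  decide +kernel

theorem blk17 : blockOK Tab.data.T par ec (Tab.words.take 80) 2176 inf17 = true := by
  decide +kernel

theorem blk21 : blockOK Tab.data.T par ec (Tab.words.take 80) 2688 inf21 = true := by
  decide +kernel

theorem blk25 : blockOK Tab.data.T par ec (Tab.words.take 80) 3200 inf25 = true := by
  decide +kernel

theorem blk29 : blockOK Tab.data.T par ec (Tab.words.take 80) 3712 inf29 = true := by
  decide +kernel

theorem blk33 : blockOK Tab.data.T par ec (Tab.words.take 80) 4224 inf33 = true := by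
  decide +kernel

theorem blk37 : blockOK Tab.data.T par ec (Tab.words.take 80) 4736 inf37 = true := by
  decide +kernel

theorem blk41 : blockOK Tab.data.T par ec (Tab.words.take 80) 5248 inf41 = true := by
  decide +kernel

theorem blk45 : blockOK Tab.data.T par ec (Tab.words.take 80) 5760 inf45 = true := by
  decide +kernel

theorem blk49 : blockOK Tab.data.T par ec (Tab.words.take 80) 6272 inf49 = true := by
  decide +kernel

theorem blk53 : blockOK Tab.data.T par ec (Tab.words.take 80) 6784 inf53 = true := by
  decide +kernel

theorem blk57 : blockOK Tab.data.T par ec (Tab.words.take 80) 7296 inf57 = true := by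
  decide +kernel

theorem blk61 : blockOK Tab.data.T par ec (Tab.words.take 80) 7808 inf61 = true := by
  decide +kernel

theorem blk65 : blockOK Tab.data.T par ec (Tab.words.take 80) 8320 inf65 = true := by
  decide +kernel

theorem blk69 : blockOK Tab.data.T par ec (Tab.words.take 80) 8832 inf69 = true := by
  decide +kernel

theorem blk73 : blockOK Tab.data.T par ec (Tab.words.take 80) 9344 inf73 = true := by
  decide +kernel

end H15.Fi24Up
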