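import Cfsg.Agent.H15.Fi24Up.ParData
import Cfsg.Agent.H15.Fi24Up.EntryData
import Cfsg.Agent.H15.Fi24Up.InfoData2
import Cfsg.Agent.H47.Fi24.Tab.RelDef

/-!
Kernel checks of the entries of the deduction, part 2 (generated).
-/

set_option autoImplicit false
set_option maxRecDepth 100000
set_option Elab.async false

namespace H15.Fi24Up

open H47.Fi24

theorem blk2 : blockOK Tab.data.T par ec (Tab.words.take 80) 256 inf2 = true := by
  decide +kernel

theorem blk6 : blockOK Tab.data.T par ec (Tab.words.take 80) 768 inf6 = true := by
  decide +kernel

theorem blk10 : blockOK Tab.data.T par ec (Tab.words.take 80) 1280 inf10 = true := by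
  decide +kernel

theorem blk14 : blockOK Tab.data.T par ec (Tab.words.take 80) 1792 inf14 = true := by
  decide +kernel

theorem blk18 : blockOK Tab.data.T par ec (Tab.words.take 80) 2304 inf18 = true := by
  decide +kernel

theorem blk22 : blockOK Tab.data.T par ec (Tab.words.take 80) 2816 inf22 = true := by
  decide +kernel

theorem blk26 : blockOK Tab.data.T par ec (Tab.words.take 80) 3328 inf26 = true := by
  decide +kernel

theorem blk30 : blockOK Tab.data.T par ec (Tab.words.take 80) 3840 inf30 = true := by
  decide +kernel

theorem blk34 : blockOK Tab.data.T par ec (Tab.words.take 80) 4352 inf34 = true := by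
  decide +kernel

theorem blk38 : blockOK Tab.data.T par ec (Tab.words.take 80) 4864 inf38 = true := by
  decide +kernel

theorem blk42 : blockOK Tab.data.T par ec (Tab.words.take 80) 5376 inf42 = true := by
  decide +kernel

theorem blk46 : blockOK Tab.data.T par ec (Tab.words.take 80) 5888 inf46 = true := by
  decide +kernel

theorem blk50 : blockOK Tab.data.T par ec (Tab.words.take 80) 6400 inf50 = true := by
  decide +kernel

theorem blk54 : blockOK Tab.data.T par ec (Tab.words.take 80) 6912 inf54 = true := by
  decide +kernel

theorem blk58 : blockOK Tab.data.T par ec (Tab.words.take 80) 7424 inf58 = true := by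
  decide +kernel

theorem blk62 : blockOK Tab.data.T par ec (Tab.words.take 80) 7936 inf62 = true := by
  decide +kernel

theorem blk66 : blockOK Tab.data.T par ec (Tab.words.take 80) 8448 inf66 = true := by
  decide +kernel

theorem blk70 : blockOK Tab.data.T par ec (Tab.words.take 80) 8960 inf70 = true := by
  decide +kernel

end H15.Fi24Up
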