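import Cfsg.Agent.H15.Fi24Up.ParData
import Cfsg.Agent.H15.Fi24Up.EntryData
import Cfsg.Agent.H15.Fi24Up.InfoData3
import Cfsg.Agent.H47.Fi24.Tab.RelDef

/-!
Kernel checks of the entries of the deduction, part 3 (generated).
-/

set_option autoImplicit false
set_option maxRecDepth 100000
set_option Elab.async false

namespace H15.Fi24Up

open H47.Fi24

theorem blk3 : blockOK Tab.data.T par ec (Tab.words.take 80) 384 inf3 = true := by
  decide +kernel

theorem blk7 : blockOK Tab.data.T par ec (Tab.words.take 80) 896 inf7 = true := by
  decide +kernel

theorem blk11 : blockOK Tab.data.T par ec (Tab.words.take 80) 1408 inf11 = true := by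
  decide +kernel

theorem blk15 : blockOK Tab.data.T par ec (Tab.words.take 80) 1920 inf15 = true := by
  decide +kernel

theorem blk19 : blockOK Tab.data.T par ec (Tab.words.take 80) 2432 inf19 = true := by
  decide +kernel

theorem blk23 : blockOK Tab.data.T par ec (Tab.words.take 80) 2944 inf23 = true := by
  decide +kernel

theorem blk27 : blockOK Tab.data.T par ec (Tab.words.take 80) 3456 inf27 = true := by
  decide +kernel

theorem blk31 : blockOK Tab.data.T par ec (Tab.words.take 80) 3968 inf31 = true := by
  decide +kernel

theorem blk35 : blockOK Tab.data.T par ec (Tab.words.take 80) 4480 inf35 = true := by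
  decide +kernel

theorem blk39 : blockOK Tab.data.T par ec (Tab.words.take 80) 4992 inf39 = true := by
  decide +kernel

theorem blk43 : blockOK Tab.data.T par ec (Tab.words.take 80) 5504 inf43 = true := by
  decide +kernel

theorem blk47 : blockOK Tab.data.T par ec (Tab.words.take 80) 6016 inf47 = true := by
  decide +kernel

theorem blk51 : blockOK Tab.data.T par ec (Tab.words.take 80) 6528 inf51 = true := by
  decide +kernel

theorem blk55 : blockOK Tab.data.T par ec (Tab.words.take 80) 7040 inf55 = true := by
  decide +kernel

theorem blk59 : blockOK Tab.data.T par ec (Tab.words.take 80) 7552 inf59 = true := by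
  decide +kernel

theorem blk63 : blockOK Tab.data.T par ec (Tab.words.take 80) 8064 inf63 = true := by
  decide +kernel

theorem blk67 : blockOK Tab.data.T par ec (Tab.words.take 80) 8576 inf67 = true := by
  decide +kernel

theorem blk71 : blockOK Tab.data.T par ec (Tab.words.take 80) 9088 inf71 = true := by
  decide +kernel

end H15.Fi24Up
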