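import Mathlib
import Cfsg.Prelude.Def_KGroupFacts

/-!
The derived subgroup of a central extension of a perfect group.
-/

set_option autoImplicit false

namespace H15.Fi24Up

open Subgroup
open scoped commutatorElement

variable {P G : Type} [Group P] [Group G]

/-- The derived subgroup of a central extension of a perfect group maps onto it and is perfect. -/
theorem derived_core (f : P →* G) (hs : Function.Surjective f) (hc : f.ker ≤ center P)
    (hG : commutator G = ⊤) :
    (∀ g, ∃ a ∈ commutator P, f a = g) ∧ ⁅commutator P, commutator P⁆ = commutator P := by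
  have hon : ∀ g, ∃ a ∈ commutator P, f a = g := by
    intro g
    have h1 : g ∈ (commutator P).map f := by
      rw [map_commutator_eq, MonoidHom.range_eq_top.2 hs, ← _root_.commutator_def, hG]
      trivial
    exact mem_map.1 h1
  refine ⟨hon, le_antisymm (commutator_le_right _ _) ?_⟩
  rw [_root_.commutator_def, commutator_le]
  intro a _ b _
  obtain ⟨a', ha', hfa⟩ := hon (f a)
  obtain ⟨b', hb', hfb⟩ := hon (f b)
  have hza : a'⁻¹ * a ∈ center P := hc (by rw [MonoidHom.mem_ker, map_mul, map_inv, hfa, inv_mul_cancel])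
  have hzb : b'⁻¹ * b ∈ center P := hc (by rw [MonoidHom.mem_ker, map_mul, map_inv, hfb, inv_mul_cancel])
  have key : ⁅a, b⁆ = ⁅a', b'⁆ := by
    obtain ⟨z, hz, rfl⟩ : ∃ z ∈ center P, a = a' * z := ⟨_, hza, by group⟩
    obtain ⟨y, hy, rfl⟩ : ∃ y ∈ center P, b = b' * y := ⟨_, hzb, by group⟩
    rw [mem_center_iff] at hz hy
    simp only [commutatorElement_def, mul_inv_rev]
    have e1 : a' * z * (b' * y) = a' * b' * (z * y) := by
      rw [mul_assoc a' z, ← mul_assoc z b', ← hz b']; group
    calc a' * z * (b' * y) * (z⁻¹ * a'⁻¹) * (y⁻¹ * b'⁻¹)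
        = a' * b' * (z * (y * z⁻¹) * a'⁻¹) * (y⁻¹ * b'⁻¹) := by rw [e1]; group
      _ = a' * b' * (y * a'⁻¹) * (y⁻¹ * b'⁻¹) := by rw [← hz (y * z⁻¹)]; group
      _ = a' * b' * (a'⁻¹ * y) * (y⁻¹ * b'⁻¹) := by rw [hy a'⁻¹]
      _ = a' * b' * a'⁻¹ * b'⁻¹ := by group
  rw [key]
  exact commutator_mem_commutator ha' hb'

/-- A finite central extension of a perfect group with trivial multiplier has a homomorphic
section. -/
theorem exists_section [Finite P] (f : P →* G) (hs : Function.Surjective f) (hc : f.ker ≤ center P)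
    (hG : commutator G = ⊤) (hM : Cfsg.HasCyclicSchurMultiplier G 1) :
    ∃ s : G →* P, ∀ g, f (s g) = g := by
  obtain ⟨hon, hperf⟩ := derived_core f hs hc hG
  let h : ↥(commutator P) →* G := f.comp (commutator P).subtype
  have hsur : Function.Surjective h := fun g => by
    obtain ⟨a, ha, rfl⟩ := hon g
    exact ⟨⟨a, ha⟩, rfl⟩
  have hstem : Cfsg.IsStemExtension h := by
    refine ⟨hsur, fun k hk => mem_center_iff.2 fun y => Subtype.ext (mem_center_iff.1 (hc hk) y), ?_⟩
    intro k _
    have h1 : (k : P) ∈ (commutator ↥(commutator P)).map (commutator P).subtype := by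
      rw [map_commutator_eq, range_subtype, hperf]; exact k.2
    obtain ⟨k', hk', e⟩ := mem_map.1 h1
    rwa [← Subtype.ext e]
  obtain ⟨π, hπ⟩ := hM.2 ↥(commutator P) h hstem
  have hinj : Function.Injective h := by
    rw [injective_iff_map_eq_one]
    intro k hk
    haveI : Subsingleton (Multiplicative (ZMod 1)) := inferInstanceAs (Subsingleton (ZMod 1))
    obtain ⟨a, ha⟩ := hπ ⟨k, hk⟩
    rw [Subsingleton.elim a 1, map_one] at ha
    exact (congrArg Subtype.val ha).symm
  let e := MulEquiv.ofBijective h ⟨hinj, hsur⟩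
  exact ⟨(commutator P).subtype.comp e.symm.toMonoidHom, fun g => e.apply_symm_apply g⟩

end H15.Fi24Up
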