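import Cfsg.Agent.H15.Fi24Up.Core
import Cfsg.Agent.H47.Fi24.Order
import Cfsg.Agent.H92.FiM.Main

/-!
Lifts of the generators of Fi24 to a cover that satisfy the Coxeter relators up to one sign.
-/

set_option autoImplicit false
set_option maxRecDepth 100000

namespace H15.Fi24Up

open H93.Coset H93 H47.Fi24
open H47.Y555 (ev_map ev_congr)

local notation "F24" => Cfsg.Spor.Fi24
local notation "D24" => commutator Cfsg.Spor.Fi24

theorem gen_not_mem {g : ℕ} (hg : g < 12) : gen g ∉ D24 := by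
  obtain ⟨χ, hχ⟩ := exists_sign
  intro h
  have h1 : χ (gen g) = 1 := Abelianization.commutator_subset_ker χ h
  rw [hχ g hg] at h1
  exact absurd h1 (by decide)

theorem mul_gen_mem {g h : ℕ} (hg : g < 12) (hh : h < 12) : gen g * gen h ∈ D24 :=
  (Subgroup.mul_mem_iff_of_index_two Cfsg.Agent.S1691.result).2
    (iff_of_false (gen_not_mem hg) (gen_not_mem hh))

/-- A cover of Fi24 whose kernel is central over the derived subgroup, the preimage of which is
perfect, with a lift of the generator `l` that is an involution. -/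
structure Cover (E : Type) [Group E] where
  π : E →* Cfsg.Spor.Fi24
  surj : Function.Surjective π
  cen : ∀ k, π k = 1 → ∀ y, π y ∈ D24 → k * y = y * k
  perfect : (D24).comap π ≤ ⁅(D24).comap π, (D24).comap π⁆
  L' : E
  L'sq : L' * L' = 1
  πL : π L' = gen 10

namespace Cover

variable {E : Type} [Group E] (V : Cover E)

/-- the action of the lifts of the generators on the kernel -/
def tw (k : E) : E := V.L' * k * V.L'

theorem L'_inv : V.L'⁻¹ = V.L' := inv_eq_of_mul_eq_one_right V.L'sq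

theorem π_tw {k : E} (hk : V.π k = 1) : V.π (V.tw k) = 1 := by
  rw [tw, map_mul, map_mul, hk, mul_one, ← map_mul, V.L'sq, map_one]

theorem tw_tw (k : E) : V.tw (V.tw k) = k := by
  rw [tw, tw, show V.L' * (V.L' * k * V.L') * V.L' = (V.L' * V.L') * k * (V.L' * V.L') by group,
    V.L'sq, one_mul, mul_one]

theorem tw_mul (a b : E) : V.tw (a * b) = V.tw a * V.tw b := by
  rw [tw, tw, tw, show V.L' * a * V.L' * (V.L' * b * V.L') = V.L' * a * (V.L' * V.L') * b * V.L' by group,
    V.L'sq, mul_one]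
  group

theorem tw_inv (a : E) : V.tw a⁻¹ = (V.tw a)⁻¹ := by
  rw [tw, tw, mul_inv_rev, mul_inv_rev, V.L'_inv]; group

theorem comm_ker {a b : E} (ha : V.π a = 1) (hb : V.π b = 1) : a * b = b * a :=
  V.cen a ha b (by rw [hb]; exact one_mem _)

/-- passing an involution that lifts a generator across the kernel -/
theorem pass {g : ℕ} (hg : g < 12) {y : E} (hy : V.π y = gen g) (hy2 : y * y = 1) {k : E}
    (hk : V.π k = 1) : y * k = V.tw k * y := by
  have h := V.cen k hk (V.L' * y) (by rw [map_mul, hy, V.πL]; exact mul_gen_mem (by norm_num) hg)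
  calc y * k = (V.L' * V.L') * y * k := by rw [V.L'sq, one_mul]
    _ = V.L' * ((V.L' * y) * k) := by group
    _ = V.L' * (k * (V.L' * y)) := by rw [h]
    _ = V.tw k * y := by rw [tw]; group

theorem exists_phi [Finite E] : ∃ ρ : Cfsg.Spor.Fi23 →* F24, ∃ φ : Cfsg.Spor.Fi23 →* E,
    (∀ a, V.π (φ a) = ρ a) ∧ (∀ k < 10, ρ (Fi23Order.gen' k) = gen k * L) ∧
      (∀ a, V.L' * φ a = φ a * V.L') ∧ Function.Injective ρ ∧ (∀ a, ρ a ∈ D24) := by
  obtain ⟨ρ, hρ⟩ := exists_rho
  haveI : IsSimpleGroup Cfsg.Spor.Fi23 := Fi23Order.isFi23.1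
  haveI := Fi23Order.card_le.1
  have hρg : ∀ k < 10, ρ (Fi23Order.gen' k) = gen k * L := by
    intro k hk
    obtain ⟨a, ha⟩ := Fi23Table.fit.exists_ix (Fi23Order.num_lt hk)
    show ρ (Fi23Order.gen (Fi23Order.num.getD k 0)) = _
    rw [← ha, show Fi23Order.gen (Fi23Table.ix a) = PresentedGroup.of a from Fi23Table.fit.gen_ix a, hρ]
    show gen ([8, 5, 0, 1, 2, 3, 7, 9, 4, 6].getD (Fi23Table.ix a) 0) * L = _
    rw [ha, (show ∀ k < 10, [8, 5, 0, 1, 2, 3, 7, 9, 4, 6].getD (Fi23Order.num.getD k 0) 0 = k by decide) k hk]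
  have hρinj : Function.Injective ρ := by
    rcases ρ.normal_ker.eq_bot_or_eq_top with h | h
    · exact (MonoidHom.ker_eq_bot_iff ρ).1 h
    · exfalso
      have h1 : gen 0 * L = 1 := by
        rw [← hρg 0 (by norm_num)]
        exact MonoidHom.mem_ker.1 (h ▸ Subgroup.mem_top (Fi23Order.gen' 0))
      have h2 := model.act_ev [10, 0] (by decide) ⟨1, by decide +kernel⟩
      rw [show ev gen [10, 0] = gen 0 * L by simp [ev], h1, map_one, Equiv.Perm.one_apply] at h2
      exact (show pathEnd Tab.data.T [10, 0] 1 ≠ 1 by decide +kernel) h2.symm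
  have hperf := H92.FiM.fi23_perfect
  have hρD : ∀ a, ρ a ∈ D24 := fun a => by
    have ha : a ∈ commutator Cfsg.Spor.Fi23 := hperf ▸ Subgroup.mem_top a
    have h1 : ρ a ∈ (commutator Cfsg.Spor.Fi23).map ρ := Subgroup.mem_map_of_mem ρ ha
    rw [map_commutator_eq] at h1
    exact Subgroup.commutator_mono le_top le_top h1
  let P : Subgroup (E × Cfsg.Spor.Fi23) :=
    { carrier := {p | V.π p.1 = ρ p.2}
      one_mem' := by simp
      mul_mem' := fun {p q} hp hq => by
        show V.π (p.1 * q.1) = ρ (p.2 * q.2)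
        rw [map_mul, map_mul, hp, hq]
      inv_mem' := fun {p} hp => by
        show V.π p.1⁻¹ = ρ p.2⁻¹
        rw [map_inv, map_inv, hp] }
  let f : P →* Cfsg.Spor.Fi23 := (MonoidHom.snd E Cfsg.Spor.Fi23).comp P.subtype
  have hfs : Function.Surjective f := fun a => by
    obtain ⟨y, hy⟩ := V.surj (ρ a)
    exact ⟨⟨(y, a), hy⟩, rfl⟩
  have hfc : f.ker ≤ Subgroup.center P := by
    rintro ⟨⟨k, b⟩, hkb⟩ (hb : b = 1)
    subst hb
    rw [Subgroup.mem_center_iff]
    rintro ⟨⟨y, a⟩, hya⟩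
    have hk : V.π k = 1 := by simpa using (show V.π k = ρ 1 from hkb)
    refine Subtype.ext (Prod.ext ?_ ?_)
    · show y * k = k * y
      exact (V.cen k hk y ((show V.π y = ρ a from hya) ▸ hρD a)).symm
    · show a * 1 = 1 * a
      simp
  haveI : Finite (E × Cfsg.Spor.Fi23) := inferInstance
  obtain ⟨s, hs⟩ := exists_section f hfs hfc hperf H92.FiM.multiplier
  let φ : Cfsg.Spor.Fi23 →* E := ((MonoidHom.fst E Cfsg.Spor.Fi23).comp P.subtype).comp s
  have hφ : ∀ a, V.π (φ a) = ρ a := fun a =>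
    (show V.π (s a).1.1 = ρ (s a).1.2 from (s a).2).trans (by rw [show (s a).1.2 = a from hs a])
  refine ⟨ρ, φ, hφ, hρg, fun a => ?_, hρinj, hρD⟩
  have hLρ : ∀ x, Commute (ρ x) L := fun x => by
    have hx : x ∈ Subgroup.comap ρ (Subgroup.centralizer {L}) := PresentedGroup.generated_by _ _ (fun b => by
      show ρ (PresentedGroup.of b) ∈ Subgroup.centralizer {L}
      rw [hρ, Subgroup.mem_centralizer_singleton_iff]
      exact ((L_comm (k := [8, 5, 0, 1, 2, 3, 7, 9, 4, 6].getD (Fi23Table.ix b) 0)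
        (by cases b <;> decide)).mul_left (Commute.refl L)).eq) x
    exact Subgroup.mem_centralizer_singleton_iff.mp hx
  have hd1 : ∀ b, V.π ((φ b)⁻¹ * (V.L' * φ b * V.L')) = 1 := fun b => by
    rw [map_mul, map_inv, map_mul, map_mul, hφ, V.πL, inv_mul_eq_one]
    show ρ b = L * ρ b * L
    rw [← (hLρ b).eq, mul_assoc, gen_inv (by norm_num : 10 < 12), mul_one]
  let d : Cfsg.Spor.Fi23 →* E :=
    { toFun := fun b => (φ b)⁻¹ * (V.L' * φ b * V.L')
      map_one' := by simp [V.L'sq]
      map_mul' := fun b c => by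
        have h := V.cen _ (hd1 b) (φ c) (by rw [hφ]; exact hρD c)
        have e : V.L' * φ (b * c) * V.L' = V.L' * φ b * V.L' * (V.L' * φ c * V.L') := by
          rw [map_mul, show V.L' * φ b * V.L' * (V.L' * φ c * V.L')
            = V.L' * φ b * (V.L' * V.L') * φ c * V.L' by group, V.L'sq, mul_one]
          group
        rw [e, map_mul, mul_inv_rev]
        calc (φ c)⁻¹ * (φ b)⁻¹ * (V.L' * φ b * V.L' * (V.L' * φ c * V.L'))
            = (φ c)⁻¹ * (((φ b)⁻¹ * (V.L' * φ b * V.L')) * φ c) * ((φ c)⁻¹ * (V.L' * φ c * V.L')) := by group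
          _ = (φ c)⁻¹ * (φ c * ((φ b)⁻¹ * (V.L' * φ b * V.L'))) * ((φ c)⁻¹ * (V.L' * φ c * V.L')) := by rw [h]
          _ = _ := by group }
  have hd : ∀ b, d b = 1 := fun b => by
    have hb : b ∈ commutator Cfsg.Spor.Fi23 := hperf ▸ Subgroup.mem_top b
    refine MonoidHom.mem_ker.1 ?_
    have : commutator Cfsg.Spor.Fi23 ≤ d.ker := by
      rw [_root_.commutator_def, Subgroup.commutator_le]
      intro p _ q _
      rw [MonoidHom.mem_ker, map_commutatorElement, commutatorElement_eq_one_iff_mul_comm]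
      exact V.comm_ker (hd1 p) (hd1 q)
    exact this hb
  have h := hd a
  calc V.L' * φ a = φ a * ((φ a)⁻¹ * (V.L' * φ a * V.L')) * V.L' := by
        rw [show φ a * ((φ a)⁻¹ * (V.L' * φ a * V.L')) * V.L' = V.L' * φ a * (V.L' * V.L') by group,
          V.L'sq, mul_one]
    _ = φ a * V.L' := by rw [show (φ a)⁻¹ * (V.L' * φ a * V.L') = 1 from h, mul_one]

/-- Involutions lifting the first eleven generators, generating a subgroup meeting the kernel
trivially. -/
theorem exists_base [Finite E] : ∃ f : ℕ → E,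
    (∀ g < 11, V.π (f g) = gen g ∧ f g * f g = 1) ∧ f 10 = V.L' ∧
      (∀ y ∈ Subgroup.closure (f '' {g | g < 11}), V.π y = 1 → y = 1) := by
  obtain ⟨ρ, φ, hφ, hρg, hL, hinj, hD⟩ := V.exists_phi
  refine ⟨fun g => if g < 10 then φ (Fi23Order.gen' g) * V.L' else V.L', ?_, by simp, ?_⟩
  · intro g hg
    rcases Nat.lt_or_ge g 10 with h | h
    · simp only [if_pos h]
      have h1 : V.π (φ (Fi23Order.gen' g) * V.L') = gen g := by
        rw [map_mul, hφ, hρg g h, V.πL, mul_assoc, gen_inv (by norm_num : 10 < 12), mul_one]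
      refine ⟨h1, ?_⟩
      rw [show φ (Fi23Order.gen' g) * V.L' * (φ (Fi23Order.gen' g) * V.L')
          = φ (Fi23Order.gen' g) * (V.L' * φ (Fi23Order.gen' g)) * V.L' by group, hL,
        show φ (Fi23Order.gen' g) * (φ (Fi23Order.gen' g) * V.L') * V.L'
          = φ (Fi23Order.gen' g * Fi23Order.gen' g) * (V.L' * V.L') by rw [map_mul]; group,
        V.L'sq, mul_one]
      have h2 : Fi23Order.gen' g * Fi23Order.gen' g = 1 := hinj (by
        rw [map_mul, map_one, hρg g h, (L_comm (k := g) (by omega)).symm.mul_mul_mul_comm,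
          gen_inv (by omega), gen_inv (by norm_num : 10 < 12), one_mul])
      rw [h2, map_one]
    · obtain rfl : g = 10 := by omega
      simp [V.πL, V.L'sq]
  · have key : ∀ y ∈ Subgroup.closure ((fun g => if g < 10 then φ (Fi23Order.gen' g) * V.L' else V.L') ''
        {g | g < 11}), ∃ a, y = φ a ∨ y = φ a * V.L' := by
      intro y hy
      induction hy using Subgroup.closure_induction with
      | mem y hy =>
        obtain ⟨g, -, rfl⟩ := hy
        by_cases h : g < 10
        · exact ⟨Fi23Order.gen' g, Or.inr (by simp [h])⟩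
        · exact ⟨1, Or.inr (by simp [h])⟩
      | one => exact ⟨1, Or.inl (by simp)⟩
      | mul y z _ _ hy hz =>
        obtain ⟨a, ha⟩ := hy; obtain ⟨b, hb⟩ := hz
        rcases ha with rfl | rfl <;> rcases hb with rfl | rfl
        · exact ⟨a * b, Or.inl (by simp)⟩
        · exact ⟨a * b, Or.inr (by simp [mul_assoc])⟩
        · exact ⟨a * b, Or.inr (by rw [mul_assoc, hL, ← mul_assoc, map_mul])⟩
        · exact ⟨a * b, Or.inl (by
            rw [mul_assoc, ← mul_assoc V.L', hL, mul_assoc (φ b), V.L'sq, mul_one, map_mul])⟩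
      | inv y _ hy =>
        obtain ⟨a, rfl | rfl⟩ := hy
        · exact ⟨a⁻¹, Or.inl (by simp)⟩
        · exact ⟨a⁻¹, Or.inr (by rw [mul_inv_rev, V.L'_inv, ← map_inv, hL])⟩
    intro y hy h1
    obtain ⟨a, rfl | rfl⟩ := key y hy
    · rw [hφ] at h1
      rw [hinj (h1.trans (map_one ρ).symm), map_one]
    · exfalso
      rw [map_mul, hφ, V.πL] at h1
      have h2 : gen 10 ∈ D24 := by
        rw [← eq_inv_of_mul_eq_one_right h1 |>.symm]
        exact inv_mem (hD a)
      exact gen_not_mem (by norm_num) h2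

end Cover

end H15.Fi24Up
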