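import Cfsg.Agent.H15.Fi24Up.Defs

/-!
The closed walks from which the conclusion is drawn (generated data).
-/

set_option autoImplicit false
set_option maxRecDepth 100000
set_option linter.all false
set_option Elab.async false

namespace H15.Fi24Up

noncomputable section

/-- entries on the walk of relator 40 at node 501 -/
def refs0 : ℕ := 0x2c0050010003

/-- entries on the walk of relator 59 at node 142848 -/
def refs1 : ℕ := 0x23006002300600230060

/-- entries on the walk of relator 50 at node 9709 -/
def refs2 : ℕ := 0x610160060417f

/-- entries on the walk of relator 78 at node 67 -/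
def refs3 : ℕ := 0x848213084420e08281ff07f41fa07e01f407901da07581c006d81b006901a306881a10670192061420f083020904a01fb07d41f607cc1e20760223088821f087821d086c219085c2150850213084420e08281ff07f41fa07e01f407901da07581c006d81b006901a306881a10670192

/-- entries on the walk of relator 78 at node 1305 -/
def refs4 : ℕ := 0xcb43230a04270097c25509102390c8c28109c025f095424408e43230a04270097c25509102390c8c28109c025f095424408e43230a04270097c25509102390c8c28109c025f095424408e43230a04270097c25509102390c8c28109c025f095424408e43230a04270097c2550910239

/-- entries on the walk of relator 18 at node 9657 -/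
def refs5 : ℕ := 0x18a46181828604

/-- entries on the walk of relator 79 at node 12654 -/
def refs6 : ℕ := 0x926248f91fe46d919e4599162456915244f91063cb8f263c78e3e3827f01fb37e4dfa67e51f8f7e29f857e01f7b7dddf737d6df4d7d21ea97aa1ea77a99ea57a7de95786de1c784de0f7821e0d7641d847619d14744dd0a73f1cf273c1ce470b9c237069c0c7009bfa6ff1bf26d95b616d6db5d6d5db166c3977a5db17545d2961b58696195844c5a3160c462a94a852a0ca7a29a0a652968a4f28f8a4428fca3b28b8a1c28109f927d09e7276c9d726ec9ad24f093b24e893924e093724d893503180bb24d092f24b88f023c892523cc8ee23a48e4237c8d323448cf23203ae23084bd22f88b913108b422c48ab22908942270899225089021d888c2228888220c87d21dc86f219c85f216084b0c5831720fc83920cc82d0c608272080818204480c1fc47e71f1c7e11f707d71f487cc1f1c7c61f047bc1ec87831eb47891e0c7821e047801dfc77e092c20600d426609dc24a06203750dec19f06f03871dcc77d1df07781dd07721dbc76d1d9c75f1d607501d2071b1cd47311c9471c1c387061c006f31b786d01b0c6b81a706aa1958655195065018fc64c190c63e18e0632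

end

end H15.Fi24Up
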