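import Cfsg.Agent.H15.Fi24Up.EntryData
import Cfsg.Agent.H15.Fi24Up.EqData
import Cfsg.Agent.H47.Fi24.Tab.RelDef

/-!
The closed walks from which the conclusion is drawn (kernel checks).
-/

set_option autoImplicit false
set_option maxRecDepth 100000

namespace H15.Fi24Up

open H47.Fi24

theorem eq0 : eqOK Tab.data.T ec 9369 ((Tab.words.take 80).getD 40 []) 501 refs0 ⟨-2,0,0,0,0,0⟩ = true := by
  decide +kernel

theorem eq1 : eqOK Tab.data.T ec 9369 ((Tab.words.take 80).getD 59 []) 142848 refs1 ⟨0,0,0,0,-3,6⟩ = true := by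
  decide +kernel

theorem eq2 : eqOK Tab.data.T ec 9369 ((Tab.words.take 80).getD 50 []) 9709 refs2 ⟨0,0,-3,0,0,3⟩ = true := by
  decide +kernel

theorem eq3 : eqOK Tab.data.T ec 9369 ((Tab.words.take 80).getD 78 []) 67 refs3 ⟨0,3,0,0,0,0⟩ = true := by
  decide +kernel

theorem eq4 : eqOK Tab.data.T ec 9369 ((Tab.words.take 80).getD 78 []) 1305 refs4 ⟨0,0,0,0,0,-17⟩ = true := by
  decide +kernel

theorem eq5 : eqOK Tab.data.T ec 9369 ((Tab.words.take 80).getD 18 []) 9657 refs5 ⟨0,-4,2,0,0,-8⟩ = true := by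
  decide +kernel

theorem eq6 : eqOK Tab.data.T ec 9369 ((Tab.words.take 80).getD 79 []) 12654 refs6 ⟨3,-3,1,1,-1,5⟩ = true := by
  decide +kernel

end H15.Fi24Up
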