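import Cfsg.Agent.H15.Fi24Up.Sound
import Cfsg.Agent.H15.Fi24Up.Check0
import Cfsg.Agent.H15.Fi24Up.Check1
import Cfsg.Agent.H15.Fi24Up.Check2
import Cfsg.Agent.H15.Fi24Up.Check3
import Cfsg.Agent.H15.Fi24Up.EqCheck

/-!
Labels on the table of Fi24 closed on the 79 relators give a cyclic group of order dividing 3.
-/

set_option autoImplicit false
set_option maxRecDepth 100000

namespace H15.Fi24Up

open H93.Coset H47.Fi24

attribute [local irreducible] entryOK eqOK

theorem entries_ok : ∀ i < 9369, ∃ s, entryOK Tab.data.T par ec (Tab.words.take 80) i s = true := by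
  intro i hi
  have key : ∀ k < 74, ∃ l : List ℕ, blockOK Tab.data.T par ec (Tab.words.take 80) (128 * k) l = true ∧
      (k < 73 → l.length = 128) ∧ (k = 73 → l.length = 25) := by
    intro k hk
    interval_cases k
    · exact ⟨inf0, blk0, fun _ => by decide +kernel, fun _ => absurd ‹0 = 73› (by decide)⟩
    · exact ⟨inf1, blk1, fun _ => by decide +kernel, fun _ => absurd ‹1 = 73› (by decide)⟩
    · exact ⟨inf2, blk2, fun _ => by decide +kernel, fun _ => absurd ‹2 = 73› (by decide)⟩
    · exact ⟨inf3, blk3, fun _ => by decide +kernel, fun _ => absurd ‹3 = 73› (by decide)⟩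
    · exact ⟨inf4, blk4, fun _ => by decide +kernel, fun _ => absurd ‹4 = 73› (by decide)⟩
    · exact ⟨inf5, blk5, fun _ => by decide +kernel, fun _ => absurd ‹5 = 73› (by decide)⟩
    · exact ⟨inf6, blk6, fun _ => by decide +kernel, fun _ => absurd ‹6 = 73› (by decide)⟩
    · exact ⟨inf7, blk7, fun _ => by decide +kernel, fun _ => absurd ‹7 = 73› (by decide)⟩
    · exact ⟨inf8, blk8, fun _ => by decide +kernel, fun _ => absurd ‹8 = 73› (by decide)⟩
    · exact ⟨inf9, blk9, fun _ => by decide +kernel, fun _ => absurd ‹9 = 73› (by decide)⟩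
    · exact ⟨inf10, blk10, fun _ => by decide +kernel, fun _ => absurd ‹10 = 73› (by decide)⟩
    · exact ⟨inf11, blk11, fun _ => by decide +kernel, fun _ => absurd ‹11 = 73› (by decide)⟩
    · exact ⟨inf12, blk12, fun _ => by decide +kernel, fun _ => absurd ‹12 = 73› (by decide)⟩
    · exact ⟨inf13, blk13, fun _ => by decide +kernel, fun _ => absurd ‹13 = 73› (by decide)⟩
    · exact ⟨inf14, blk14, fun _ => by decide +kernel, fun _ => absurd ‹14 = 73› (by decide)⟩
    · exact ⟨inf15, blk15, fun _ => by decide +kernel, fun _ => absurd ‹15 = 73› (by decide)⟩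
    · exact ⟨inf16, blk16, fun _ => by decide +kernel, fun _ => absurd ‹16 = 73› (by decide)⟩
    · exact ⟨inf17, blk17, fun _ => by decide +kernel, fun _ => absurd ‹17 = 73› (by decide)⟩
    · exact ⟨inf18, blk18, fun _ => by decide +kernel, fun _ => absurd ‹18 = 73› (by decide)⟩
    · exact ⟨inf19, blk19, fun _ => by decide +kernel, fun _ => absurd ‹19 = 73› (by decide)⟩
    · exact ⟨inf20, blk20, fun _ => by decide +kernel, fun _ => absurd ‹20 = 73› (by decide)⟩
    · exact ⟨inf21, blk21, fun _ => by decide +kernel, fun _ => absurd ‹21 = 73› (by decide)⟩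
    · exact ⟨inf22, blk22, fun _ => by decide +kernel, fun _ => absurd ‹22 = 73› (by decide)⟩
    · exact ⟨inf23, blk23, fun _ => by decide +kernel, fun _ => absurd ‹23 = 73› (by decide)⟩
    · exact ⟨inf24, blk24, fun _ => by decide +kernel, fun _ => absurd ‹24 = 73› (by decide)⟩
    · exact ⟨inf25, blk25, fun _ => by decide +kernel, fun _ => absurd ‹25 = 73› (by decide)⟩
    · exact ⟨inf26, blk26, fun _ => by decide +kernel, fun _ => absurd ‹26 = 73› (by decide)⟩
    · exact ⟨inf27, blk27, fun _ => by decide +kernel, fun _ => absurd ‹27 = 73› (by decide)⟩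
    · exact ⟨inf28, blk28, fun _ => by decide +kernel, fun _ => absurd ‹28 = 73› (by decide)⟩
    · exact ⟨inf29, blk29, fun _ => by decide +kernel, fun _ => absurd ‹29 = 73› (by decide)⟩
    · exact ⟨inf30, blk30, fun _ => by decide +kernel, fun _ => absurd ‹30 = 73› (by decide)⟩
    · exact ⟨inf31, blk31, fun _ => by decide +kernel, fun _ => absurd ‹31 = 73› (by decide)⟩
    · exact ⟨inf32, blk32, fun _ => by decide +kernel, fun _ => absurd ‹32 = 73› (by decide)⟩
    · exact ⟨inf33, blk33, fun _ => by decide +kernel, fun _ => absurd ‹33 = 73› (by decide)⟩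
    · exact ⟨inf34, blk34, fun _ => by decide +kernel, fun _ => absurd ‹34 = 73› (by decide)⟩
    · exact ⟨inf35, blk35, fun _ => by decide +kernel, fun _ => absurd ‹35 = 73› (by decide)⟩
    · exact ⟨inf36, blk36, fun _ => by decide +kernel, fun _ => absurd ‹36 = 73› (by decide)⟩
    · exact ⟨inf37, blk37, fun _ => by decide +kernel, fun _ => absurd ‹37 = 73› (by decide)⟩
    · exact ⟨inf38, blk38, fun _ => by decide +kernel, fun _ => absurd ‹38 = 73› (by decide)⟩
    · exact ⟨inf39, blk39, fun _ => by decide +kernel, fun _ => absurd ‹39 = 73› (by decide)⟩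
    · exact ⟨inf40, blk40, fun _ => by decide +kernel, fun _ => absurd ‹40 = 73› (by decide)⟩
    · exact ⟨inf41, blk41, fun _ => by decide +kernel, fun _ => absurd ‹41 = 73› (by decide)⟩
    · exact ⟨inf42, blk42, fun _ => by decide +kernel, fun _ => absurd ‹42 = 73› (by decide)⟩
    · exact ⟨inf43, blk43, fun _ => by decide +kernel, fun _ => absurd ‹43 = 73› (by decide)⟩
    · exact ⟨inf44, blk44, fun _ => by decide +kernel, fun _ => absurd ‹44 = 73› (by decide)⟩
    · exact ⟨inf45, blk45, fun _ => by decide +kernel, fun _ => absurd ‹45 = 73› (by decide)⟩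
    · exact ⟨inf46, blk46, fun _ => by decide +kernel, fun _ => absurd ‹46 = 73› (by decide)⟩
    · exact ⟨inf47, blk47, fun _ => by decide +kernel, fun _ => absurd ‹47 = 73› (by decide)⟩
    · exact ⟨inf48, blk48, fun _ => by decide +kernel, fun _ => absurd ‹48 = 73› (by decide)⟩
    · exact ⟨inf49, blk49, fun _ => by decide +kernel, fun _ => absurd ‹49 = 73› (by decide)⟩
    · exact ⟨inf50, blk50, fun _ => by decide +kernel, fun _ => absurd ‹50 = 73› (by decide)⟩
    · exact ⟨inf51, blk51, fun _ => by decide +kernel, fun _ => absurd ‹51 = 73› (by decide)⟩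
    · exact ⟨inf52, blk52, fun _ => by decide +kernel, fun _ => absurd ‹52 = 73› (by decide)⟩
    · exact ⟨inf53, blk53, fun _ => by decide +kernel, fun _ => absurd ‹53 = 73› (by decide)⟩
    · exact ⟨inf54, blk54, fun _ => by decide +kernel, fun _ => absurd ‹54 = 73› (by decide)⟩
    · exact ⟨inf55, blk55, fun _ => by decide +kernel, fun _ => absurd ‹55 = 73› (by decide)⟩
    · exact ⟨inf56, blk56, fun _ => by decide +kernel, fun _ => absurd ‹56 = 73› (by decide)⟩
    · exact ⟨inf57, blk57, fun _ => by decide +kernel, fun _ => absurd ‹57 = 73› (by decide)⟩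
    · exact ⟨inf58, blk58, fun _ => by decide +kernel, fun _ => absurd ‹58 = 73› (by decide)⟩
    · exact ⟨inf59, blk59, fun _ => by decide +kernel, fun _ => absurd ‹59 = 73› (by decide)⟩
    · exact ⟨inf60, blk60, fun _ => by decide +kernel, fun _ => absurd ‹60 = 73› (by decide)⟩
    · exact ⟨inf61, blk61, fun _ => by decide +kernel, fun _ => absurd ‹61 = 73› (by decide)⟩
    · exact ⟨inf62, blk62, fun _ => by decide +kernel, fun _ => absurd ‹62 = 73› (by decide)⟩
    · exact ⟨inf63, blk63, fun _ => by decide +kernel, fun _ => absurd ‹63 = 73› (by decide)⟩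
    · exact ⟨inf64, blk64, fun _ => by decide +kernel, fun _ => absurd ‹64 = 73› (by decide)⟩
    · exact ⟨inf65, blk65, fun _ => by decide +kernel, fun _ => absurd ‹65 = 73› (by decide)⟩
    · exact ⟨inf66, blk66, fun _ => by decide +kernel, fun _ => absurd ‹66 = 73› (by decide)⟩
    · exact ⟨inf67, blk67, fun _ => by decide +kernel, fun _ => absurd ‹67 = 73› (by decide)⟩
    · exact ⟨inf68, blk68, fun _ => by decide +kernel, fun _ => absurd ‹68 = 73› (by decide)⟩
    · exact ⟨inf69, blk69, fun _ => by decide +kernel, fun _ => absurd ‹69 = 73› (by decide)⟩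
    · exact ⟨inf70, blk70, fun _ => by decide +kernel, fun _ => absurd ‹70 = 73› (by decide)⟩
    · exact ⟨inf71, blk71, fun _ => by decide +kernel, fun _ => absurd ‹71 = 73› (by decide)⟩
    · exact ⟨inf72, blk72, fun _ => by decide +kernel, fun _ => absurd ‹72 = 73› (by decide)⟩
    · exact ⟨inf73, blk73, fun _ => absurd ‹73 < 73› (lt_irrefl _), fun _ => by decide +kernel⟩
  obtain ⟨l, hl, h1, h2⟩ := key (i / 128) (by omega)
  have hlen : i % 128 < l.length := by
    rcases Nat.lt_or_ge (i / 128) 73 with h | h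
    · rw [h1 h]; omega
    · rw [h2 (by omega)]; omega
  obtain ⟨s, hs⟩ := blockOK_spec hl _ hlen
  exact ⟨s, by rwa [Nat.div_add_mod] at hs⟩

theorem loop_edge : Tab.data.T 9 121103 = 121103 := by decide +kernel

theorem pad_entry : eG ec 9369 < 12 ∧ eC ec 9369 < 306936 := by decide +kernel

/-- With these labels the class `e` vanishes and the central word `ζ` has exponent 3 and is
inverted by `θ`. -/
theorem deduce {A : Type} [AddCommGroup A] (D : Labels A Tab.data.T par (Tab.words.take 80)) (ζ : A)
    (hz : ∀ c < 306936, tot D.θ D.lab Tab.data.T ((Tab.words.take 80).getD 79 []) c = ζ) :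
    D.e = 0 ∧ D.θ ζ = -ζ ∧ (3 : ℤ) • ζ = 0 := by
  have h3 : D.θ D.p3 = -D.p3 := by
    have h := D.sym 9 (by norm_num) 121103 (by norm_num)
    rw [loop_edge] at h
    exact eq_neg_of_add_eq_zero_left h
  have hg := D.all_good ec h3 entries_ok
  have q : ∀ {w : List ℕ} {c refs : ℕ} {F : Frm}, eqOK Tab.data.T ec 9369 w c refs F = true →
      c < 306936 ∧ tot D.θ D.lab Tab.data.T w c = D.val F :=
    fun h => D.eq_sound ec h3 pad_entry.1 pad_entry.2 hg h
  have r : ∀ {n c refs : ℕ} {F : Frm},
      eqOK Tab.data.T ec 9369 ((Tab.words.take 80).getD n []) c refs F = true → n < 79 → n ≠ 74 →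
        D.val F = 0 := by
    intro n c refs F h hn hne
    obtain ⟨hc, h'⟩ := q h
    rw [← h', D.rel n hn c hc, if_neg hne]
  have a0 := r eq0 (by norm_num) (by norm_num)
  have a1 := r eq1 (by norm_num) (by norm_num)
  have a2 := r eq2 (by norm_num) (by norm_num)
  have a3 := r eq3 (by norm_num) (by norm_num)
  have a4 := r eq4 (by norm_num) (by norm_num)
  have a5 := r eq5 (by norm_num) (by norm_num)
  obtain ⟨hc6, a6⟩ := q eq6
  rw [hz _ hc6] at a6
  simp only [Labels.val, zero_smul, add_zero, zero_add] at a0 a1 a2 a3 a4 a5 a6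
  have h2e := D.two_e
  have he : D.e = 0 := by linear_combination (norm := module) -a4 - (8 : ℤ) • h2e
  have hq1 : (3 : ℤ) • D.p1 = 0 := by
    have h := congrArg D.θ a3
    rwa [map_zsmul, D.θθ, map_zero] at h
  have hp1 : D.p1 = 0 := by linear_combination (norm := module) hq1 + a0
  have hq : D.θ D.p1 = 0 := by rw [hp1, map_zero]
  rw [he, smul_zero, add_zero] at a1 a2
  rw [he, hp1, map_zero] at a5 a6
  simp only [smul_zero, add_zero, zero_add] at a5 a6
  have hp2 : D.p2 = 0 := by linear_combination (norm := module) -a2 - a5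
  simp only [hp2, map_zero, smul_zero, add_zero, zero_add, neg_smul, one_smul] at a6
  refine ⟨he, ?_, ?_⟩
  · rw [a6, map_neg, h3]
  · rw [a6]; linear_combination (norm := module) a1

end H15.Fi24Up
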