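import Mathlib
import Cfsg.Agent.H93.Coset

/-!
A checker for a deduction of the edge labels of the universal cover of a coset table: each entry is
an edge with its label written as a combination of six parameters, justified by a closed walk all
of whose other edges are earlier entries.
-/

set_option autoImplicit false
set_option linter.all false

namespace H15.Fi24Up

open H93.Coset

/-- A combination of `p₁, θ p₁, p₂, θ p₂, p₃, e`, where `θ p₃ = -p₃` and `θ e = e`. -/
structure Frm where
  a : ℤ
  b : ℤ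
  c : ℤ
  d : ℤ
  m : ℤ
  n : ℤ

namespace Frm

def zero : Frm := ⟨0, 0, 0, 0, 0, 0⟩

def isZero (x : Frm) : Bool :=
  (x.a == 0) && (x.b == 0) && (x.c == 0) && (x.d == 0) && (x.m == 0) && (x.n == 0)

def add (x y : Frm) : Frm := ⟨x.a + y.a, x.b + y.b, x.c + y.c, x.d + y.d, x.m + y.m, x.n + y.n⟩

def neg (x : Frm) : Frm := ⟨-x.a, -x.b, -x.c, -x.d, -x.m, -x.n⟩

def smul (k : ℤ) (x : Frm) : Frm := ⟨k * x.a, k * x.b, k * x.c, k * x.d, k * x.m, k * x.n⟩

def theta (x : Frm) : Frm := ⟨x.b, x.a, x.d, x.c, -x.m, x.n⟩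

/-- apply `θ` if the flag is set -/
def thetaIf (p : Bool) (x : Frm) : Frm := Bool.rec (motive := fun _ => Frm) x x.theta p

def unitA : Frm := ⟨1, 0, 0, 0, 0, 0⟩
def unitC : Frm := ⟨0, 0, 1, 0, 0, 0⟩
def unitM : Frm := ⟨0, 0, 0, 0, 1, 0⟩
def unitN : Frm := ⟨0, 0, 0, 0, 0, 1⟩

theorem isZero_eq {x : Frm} (h : x.isZero = true) : x = zero := by
  obtain ⟨a, b, c, d, m, n⟩ := x
  simp only [isZero, Bool.and_eq_true, beq_iff_eq] at h
  obtain ⟨⟨⟨⟨⟨rfl, rfl⟩, rfl⟩, rfl⟩, rfl⟩, rfl⟩ := h
  rfl

/-- equality test -/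
def eqb (x y : Frm) : Bool := (x.add y.neg).isZero

end Frm

noncomputable section

/-- generator of an entry -/
def eG (ec : ℕ → ℕ) (i : ℕ) : ℕ := Nat.land (ec i) 15

/-- node of an entry -/
def eC (ec : ℕ → ℕ) (i : ℕ) : ℕ := Nat.land (Nat.shiftRight (ec i) 4) 524287

/-- one biased coefficient of an entry -/
def eK (ec : ℕ → ℕ) (i j : ℕ) : ℤ :=
  Int.ofNat (Nat.land (Nat.shiftRight (ec i) (Nat.add 24 (Nat.mul 8 j))) 255) - 128

/-- label of an entry -/
def eV (ec : ℕ → ℕ) (i : ℕ) : Frm :=
  ⟨eK ec i 0, eK ec i 1, eK ec i 2, eK ec i 3, eK ec i 4, eK ec i 5⟩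

/-- state of a scan: the known part and the two multiplicities of the new edge -/
structure Acc where
  f : Frm
  u : ℤ
  v : ℤ

/-- the start of a scan -/
def Acc.start : Acc := ⟨Frm.zero, 0, 0⟩

/-- one step of a scan, reading entry `j` on the edge `(g, c)` with parity `p` -/
def step (T : ℕ → ℕ → ℕ) (ec : ℕ → ℕ) (i j g c : ℕ) (p : Bool) (s : Acc) : Option Acc :=
  if eG ec j == g then
    if eC ec j == c then
      if j < i then some ⟨s.f.add ((eV ec j).thetaIf p), s.u, s.v⟩
      else if j == i then (if p then some ⟨s.f, s.u, s.v + 1⟩ else some ⟨s.f, s.u + 1, s.v⟩)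
      else none
    else if T g (eC ec j) == c then
      if j < i then some ⟨s.f.add ((eV ec j).theta.neg.thetaIf p), s.u, s.v⟩
      else if j == i then (if p then some ⟨s.f, s.u - 1, s.v⟩ else some ⟨s.f, s.u, s.v - 1⟩)
      else none
    else none
  else none

/-- scan of a word at a node, the entries used being packed in `refs` -/
def scan (T : ℕ → ℕ → ℕ) (ec : ℕ → ℕ) (i : ℕ) : List ℕ → ℕ → ℕ → Acc → Option Acc
  | [], _, _, s => some s
  | g :: w, c, refs, s =>
    force (Nat.land refs 16383) fun j =>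
      match step T ec i j g c (w.length % 2 == 1) s with
      | none => none
      | some s' => force (T g c) fun d => force (Nat.shiftRight refs 14) fun rest => scan T ec i w d rest s'

/-- the right hand side of a relator -/
def rhs (r : ℕ) : Frm := if r == 74 then Frm.unitN else Frm.zero

/-- the new edge of a scan is determined by it and has the value of the entry -/
def solved (T : ℕ → ℕ → ℕ) (ec : ℕ → ℕ) (i r : ℕ) (s : Acc) : Bool :=
  let F := s.f.add (rhs r).neg
  if T (eG ec i) (eC ec i) == eC ec i then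
    ((s.u - s.v == 1) || (s.u - s.v == -1)) && (F.add ((eV ec i).smul (s.u - s.v))).isZero
  else
    (((s.u == 1 || s.u == -1) && (s.v == 0)) || ((s.v == 1 || s.v == -1) && (s.u == 0))) &&
      (F.add (((eV ec i).smul s.u).add ((eV ec i).theta.smul s.v))).isZero

/-- path from the root in the tree given by the parent letters -/
def path (T : ℕ → ℕ → ℕ) (par : ℕ → ℕ) (c : ℕ) : List ℕ :=
  Nat.rec (motive := fun _ => ℕ → List ℕ) (fun _ => [])
    (fun _ ih c => if c == 0 then [] else
      force (par c) fun g => force (T g c) fun d => ih d ++ [g]) 64 c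

/-- a valid path -/
def pathOK (T : ℕ → ℕ → ℕ) (par : ℕ → ℕ) (c : ℕ) : Bool :=
  (path T par c).all (fun g => decide (g < 12)) && (pathEnd T (path T par c) 0 == c)

/-- an edge of the tree -/
def treeOK (T : ℕ → ℕ → ℕ) (par : ℕ → ℕ) (g c : ℕ) : Bool :=
  pathOK T par c && pathOK T par (T g c) && (path T par (T g c) == path T par c ++ [g])

/-- justification of an entry -/
def entryOK (T : ℕ → ℕ → ℕ) (par : ℕ → ℕ) (ec : ℕ → ℕ) (ws : List (List ℕ))
    (i s : ℕ) : Bool :=
  let r := Nat.land s 127
  let g := eG ec i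
  let c := eC ec i
  (g < 12 : Bool) && (c < 306936 : Bool) &&
  if r < 79 then
    force (Nat.land (Nat.shiftRight s 7) 524287) fun c₀ =>
      (c₀ < 306936 : Bool) &&
      match scan T ec i (ws.getD r []) c₀ (Nat.shiftRight s 26) Acc.start with
      | none => false
      | some a => solved T ec i r a
  else if r == 100 then (c == 0) && (g < 11 : Bool) && (eV ec i).isZero
  else if r == 101 then treeOK T par g c && (eV ec i).isZero
  else if r == 102 then (g == 8) && (c == 349) && (eV ec i).eqb Frm.unitA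
  else if r == 103 then (g == 10) && (c == 4363) && (eV ec i).eqb Frm.unitC
  else if r == 104 then (g == 9) && (c == 121103) && (eV ec i).eqb Frm.unitM
  else false

/-- justifications of consecutive entries -/
def blockOK (T : ℕ → ℕ → ℕ) (par : ℕ → ℕ) (ec : ℕ → ℕ) (ws : List (List ℕ)) : ℕ → List ℕ → Bool
  | _, [] => true
  | i, s :: l => entryOK T par ec ws i s && force (i + 1) fun k => blockOK T par ec ws k l

/-- a closed walk with all edges known has the given total -/
def eqOK (T : ℕ → ℕ → ℕ) (ec : ℕ → ℕ) (ne : ℕ) (w : List ℕ) (c₀ refs : ℕ) (F : Frm) : Bool :=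
  (c₀ < 306936 : Bool) &&
  match scan T ec ne w c₀ refs Acc.start with
  | none => false
  | some a => (a.u == 0) && (a.v == 0) && a.f.eqb F

end

end H15.Fi24Up
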