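import Cfsg.Agent.H15.Fi24Up.Upper
import Cfsg.Agent.H15.Fi24Up.Core

/-!
Every stem extension of Fi24' has kernel cyclic of order dividing 3.
-/

set_option autoImplicit false

namespace H15.Fi24Up

open H93.Coset H93 H47.Fi24

theorem fi24'_perfect : commutator Cfsg.Spor.Fi24' = ⊤ := by
  haveI hs : IsSimpleGroup Cfsg.Spor.Fi24' := H47.Fi24.isFi24'.1
  refine ((inferInstance : (commutator Cfsg.Spor.Fi24').Normal).eq_bot_or_eq_top).resolve_left fun h => ?_
  have hab : ∀ a b : Cfsg.Spor.Fi24', a * b = b * a := fun a b => by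
    rw [← commutatorElement_eq_one_iff_mul_comm, ← Subgroup.mem_bot, ← h]
    exact Subgroup.commutator_mem_commutator (Subgroup.mem_top _) (Subgroup.mem_top _)
  -- an abelian derived subgroup would contain the image of the simple group Fi23
  obtain ⟨ρ, hρ⟩ := exists_rho
  have hD : ∀ a, ρ a ∈ commutator Cfsg.Spor.Fi24 := fun a => by
    have ha : a ∈ commutator Cfsg.Spor.Fi23 := H92.FiM.fi23_perfect ▸ Subgroup.mem_top a
    have h1 : ρ a ∈ (commutator Cfsg.Spor.Fi23).map ρ := Subgroup.mem_map_of_mem ρ ha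
    rw [map_commutator_eq] at h1
    exact Subgroup.commutator_mono le_top le_top h1
  let ρ' : Cfsg.Spor.Fi23 →* Cfsg.Spor.Fi24' := ρ.codRestrict _ hD
  have h1 : ∀ a, ρ' a = 1 := fun a => by
    have ha : a ∈ commutator Cfsg.Spor.Fi23 := H92.FiM.fi23_perfect ▸ Subgroup.mem_top a
    have hle : commutator Cfsg.Spor.Fi23 ≤ ρ'.ker := by
      rw [_root_.commutator_def, Subgroup.commutator_le]
      intro p _ q _
      rw [MonoidHom.mem_ker, map_commutatorElement, commutatorElement_eq_one_iff_mul_comm]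
      exact hab _ _
    exact hle ha
  obtain ⟨a, ha⟩ := Fi23Table.fit.exists_ix (Fi23Order.num_lt (show 0 < 10 by norm_num))
  have h2 : gen ([8, 5, 0, 1, 2, 3, 7, 9, 4, 6].getD (Fi23Table.ix a) 0) * L = 1 := by
    have h3 : ρ (PresentedGroup.of a) = 1 := congrArg Subtype.val (h1 (PresentedGroup.of a))
    rwa [hρ] at h3
  generalize hk : [8, 5, 0, 1, 2, 3, 7, 9, 4, 6].getD (Fi23Table.ix a) 0 = k at h2
  have hk10 : k < 10 := by rw [← hk]; cases a <;> decide
  have h4 := model.act_ev [10, k] (by intro g hg; simp at hg; rcases hg with rfl | rfl <;> [decide; exact lt_trans hk10 (by decide)])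
    ⟨1, by decide +kernel⟩
  rw [show ev gen [10, k] = gen k * L by simp [ev], h2, map_one, Equiv.Perm.one_apply] at h4
  exact (show ∀ k < 10, pathEnd Tab.data.T [10, k] 1 ≠ 1 by decide +kernel) k hk10 h4.symm

section Ext

variable {Γ : Type} [Group Γ] (σ : Γ →* Cfsg.Spor.Fi24')

/-- pairs over conjugate elements -/
def pull : Subgroup (Γ × Γ) where
  carrier := {p | (σ p.2 : Cfsg.Spor.Fi24) = L * (σ p.1 : Cfsg.Spor.Fi24) * L}
  one_mem' := by simp [gen_inv (by norm_num : 10 < 12)]
  mul_mem' := fun {p q} hp hq => by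
    show (σ (p.2 * q.2) : Cfsg.Spor.Fi24) = L * (σ (p.1 * q.1) : Cfsg.Spor.Fi24) * L
    rw [map_mul, map_mul, Subgroup.coe_mul, Subgroup.coe_mul, hp, hq]
    calc L * (σ p.1 : Cfsg.Spor.Fi24) * L * (L * (σ q.1 : Cfsg.Spor.Fi24) * L)
        = L * (σ p.1 : Cfsg.Spor.Fi24) * (L * L) * (σ q.1 : Cfsg.Spor.Fi24) * L := by group
      _ = _ := by rw [gen_inv (by norm_num : 10 < 12), mul_one]; group
  inv_mem' := fun {p} hp => by
    show (σ p.2⁻¹ : Cfsg.Spor.Fi24) = L * (σ p.1⁻¹ : Cfsg.Spor.Fi24) * L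
    rw [map_inv, map_inv, Subgroup.coe_inv, Subgroup.coe_inv, hp, mul_inv_rev, mul_inv_rev, L_inv]
    group

theorem mem_pull {p : Γ × Γ} :
    p ∈ pull σ ↔ (σ p.2 : Cfsg.Spor.Fi24) = L * (σ p.1 : Cfsg.Spor.Fi24) * L := Iff.rfl

theorem swap_pull {p : Γ × Γ} (hp : p ∈ pull σ) : (p.2, p.1) ∈ pull σ := by
  rw [mem_pull] at hp ⊢
  rw [hp, show L * (L * (σ p.1 : Cfsg.Spor.Fi24) * L) * L
    = (L * L) * (σ p.1 : Cfsg.Spor.Fi24) * (L * L) by group, gen_inv (by norm_num : 10 < 12), one_mul, mul_one]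

/-- the exchange of the two coordinates -/
def swapEquiv : MulAut (pull σ) where
  toFun p := ⟨(p.1.2, p.1.1), swap_pull σ p.2⟩
  invFun p := ⟨(p.1.2, p.1.1), swap_pull σ p.2⟩
  left_inv _ := rfl
  right_inv _ := rfl
  map_mul' _ _ := rfl

theorem exists_cover [Finite Γ] (hσ : Cfsg.IsStemExtension σ) :
    ∃ (E : Type) (_ : Group E) (_ : Finite E) (V : Cover E),
      ∃ p : V.π.ker →* σ.ker, Function.Surjective p := by
  obtain ⟨hsur, hcen, hcom⟩ := hσ
  have hΓ : commutator Γ = ⊤ := by
    rw [eq_top_iff]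
    intro a _
    have h1 : σ a ∈ (commutator Γ).map σ := by
      rw [map_commutator_eq, MonoidHom.range_eq_top.2 hsur, ← _root_.commutator_def, fi24'_perfect]
      trivial
    obtain ⟨c, hc, hca⟩ := Subgroup.mem_map.1 h1
    have h2 : c⁻¹ * a ∈ commutator Γ := hcom (by rw [MonoidHom.mem_ker, map_mul, map_inv, hca, inv_mul_cancel])
    simpa using mul_mem hc h2
  let f : pull σ →* Cfsg.Spor.Fi24' := σ.comp ((MonoidHom.fst Γ Γ).comp (pull σ).subtype)
  have hLD : ∀ a : Cfsg.Spor.Fi24', L * (a : Cfsg.Spor.Fi24) * L ∈ commutator Cfsg.Spor.Fi24 := fun a => by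
    have := (Subgroup.Normal.conj_mem inferInstance _ a.2 L : L * (a : Cfsg.Spor.Fi24) * L⁻¹ ∈ commutator _)
    rwa [L_inv] at this
  have hfs : Function.Surjective f := fun g => by
    obtain ⟨a, rfl⟩ := hsur g
    obtain ⟨b, hb⟩ := hsur ⟨_, hLD (σ a)⟩
    exact ⟨⟨(a, b), (mem_pull σ).2 (congrArg Subtype.val hb)⟩, rfl⟩
  have hker : ∀ p : pull σ, f p = 1 → σ p.1.1 = 1 ∧ σ p.1.2 = 1 := by
    intro p hp
    refine ⟨hp, Subtype.ext ?_⟩
    rw [(mem_pull σ).1 p.2, show σ p.1.1 = 1 from hp]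
    simp [gen_inv (by norm_num : 10 < 12)]
  have hfc : f.ker ≤ Subgroup.center (pull σ) := fun p hp => by
    obtain ⟨h1, h2⟩ := hker p hp
    rw [Subgroup.mem_center_iff]
    intro q
    exact Subtype.ext (Prod.ext (Subgroup.mem_center_iff.1 (hcen h1) _) (Subgroup.mem_center_iff.1 (hcen h2) _))
  obtain ⟨hon, hperf⟩ := derived_core f hfs hfc fi24'_perfect
  set C := commutator (pull σ) with hCdef
  have hCswap : ∀ p ∈ C, swapEquiv σ p ∈ C := by
    intro p hp
    have h : swapEquiv σ p ∈ C.map (swapEquiv σ).toMonoidHom := Subgroup.mem_map_of_mem _ hp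
    rw [hCdef, map_commutator_eq, MonoidHom.range_eq_top.2 (swapEquiv σ).surjective,
      ← _root_.commutator_def] at h
    exact h
  let τ : MulAut C :=
    { toFun := fun c => ⟨swapEquiv σ c, hCswap _ c.2⟩
      invFun := fun c => ⟨swapEquiv σ c, hCswap _ c.2⟩
      left_inv := fun _ => rfl
      right_inv := fun _ => rfl
      map_mul' := fun _ _ => rfl }
  have hτ : τ * τ = 1 := MulEquiv.ext fun _ => rfl
  have hL2 : L * L = 1 := gen_inv (by norm_num : 10 < 12)
  let pick {M : Type} [Group M] (m : M) (hm : m * m = 1) : Multiplicative (ZMod 2) →* M :=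
    { toFun := fun u => if u = 1 then 1 else m
      map_one' := by simp
      map_mul' := fun a b => by
        rcases (show ∀ u : Multiplicative (ZMod 2), u = 1 ∨ u = Multiplicative.ofAdd 1 by decide) a with rfl | rfl <;>
          rcases (show ∀ u : Multiplicative (ZMod 2), u = 1 ∨ u = Multiplicative.ofAdd 1 by decide) b with rfl | rfl <;>
          simp [hm, show Multiplicative.ofAdd (1 : ZMod 2) * Multiplicative.ofAdd 1 = 1 by decide,
            show Multiplicative.ofAdd (1 : ZMod 2) ≠ 1 by decide] }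
  have hpick : ∀ {M : Type} [Group M] (m : M) (hm : m * m = 1), pick m hm (Multiplicative.ofAdd 1) = m :=
    fun m hm => by simp [pick, show Multiplicative.ofAdd (1 : ZMod 2) ≠ 1 by decide]
  let act := pick τ hτ
  let π₀ : C →* Cfsg.Spor.Fi24 := (commutator Cfsg.Spor.Fi24).subtype.comp (f.comp C.subtype)
  let π₁ := pick (L : Cfsg.Spor.Fi24) hL2
  have hcompat : ∀ u, π₀.comp (act u).toMonoidHom = (MulAut.conj (π₁ u)).toMonoidHom.comp π₀ := by
    intro u
    rcases (show ∀ u : Multiplicative (ZMod 2), u = 1 ∨ u = Multiplicative.ofAdd 1 by decide) u with rfl | rfl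
    · ext c; simp [act, π₁, pick]
    · ext c
      have hne : Multiplicative.ofAdd (1 : ZMod 2) ≠ 1 := by decide
      show π₀ (act (Multiplicative.ofAdd 1) c) = π₁ (Multiplicative.ofAdd 1) * π₀ c * (π₁ (Multiplicative.ofAdd 1))⁻¹
      rw [show act (Multiplicative.ofAdd 1) = τ from hpick τ hτ,
        show π₁ (Multiplicative.ofAdd 1) = L from hpick L hL2, L_inv]
      exact (mem_pull σ).1 (c : pull σ).2
  let E := C ⋊[act] Multiplicative (ZMod 2)
  let π : E →* Cfsg.Spor.Fi24 := SemidirectProduct.lift π₀ π₁ hcompat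
  haveI : Finite E := Finite.of_equiv _ SemidirectProduct.equivProd.symm
  have hDpi : ∀ y : E, π y ∈ commutator Cfsg.Spor.Fi24 → y.right = 1 := by
    intro y hy
    rcases (show ∀ u : Multiplicative (ZMod 2), u = 1 ∨ u = Multiplicative.ofAdd 1 by decide) y.right with h | h
    · exact h
    · exfalso
      have h1 : π y = π₀ y.left * L := by
        show π₀ y.left * π₁ y.right = _
        rw [h, show π₁ (Multiplicative.ofAdd 1) = L from hpick L hL2]
      rw [h1] at hy
      exact gen_not_mem (g := 10) (by norm_num)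
        ((Subgroup.mul_mem_cancel_left _ (f (y.left : pull σ)).2).1 hy)
  have hinl : ∀ y : E, π y ∈ commutator Cfsg.Spor.Fi24 → y = SemidirectProduct.inl y.left := fun y hy =>
    SemidirectProduct.ext rfl (hDpi y hy)
  have hzero : ∀ y : E, π y = 1 → y = SemidirectProduct.inl y.left ∧ f (y.left : pull σ) = 1 := by
    intro y hy
    have e := hinl y (hy ▸ one_mem _)
    refine ⟨e, ?_⟩
    rw [e, SemidirectProduct.lift_inl] at hy
    exact Subtype.ext hy
  let V : Cover E :=
    { π := π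
      surj := fun g => by
        by_cases hg : g ∈ commutator Cfsg.Spor.Fi24
        · obtain ⟨p, hp, hpg⟩ := hon ⟨g, hg⟩
          exact ⟨SemidirectProduct.inl ⟨p, hp⟩, by
            rw [SemidirectProduct.lift_inl]; exact congrArg Subtype.val hpg⟩
        · have hg' : g * L ∈ commutator Cfsg.Spor.Fi24 :=
            (Subgroup.mul_mem_iff_of_index_two Cfsg.Agent.S1691.result).2
              (iff_of_false hg (gen_not_mem (g := 10) (by norm_num)))
          obtain ⟨p, hp, hpg⟩ := hon ⟨g * L, hg'⟩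
          refine ⟨SemidirectProduct.inl ⟨p, hp⟩ * SemidirectProduct.inr (Multiplicative.ofAdd 1), ?_⟩
          rw [map_mul, SemidirectProduct.lift_inl, SemidirectProduct.lift_inr,
            show π₁ (Multiplicative.ofAdd 1) = L from hpick L hL2,
            show π₀ ⟨p, hp⟩ = g * L from congrArg Subtype.val hpg, mul_assoc, hL2, mul_one]
      cen := fun k hk y hy => by
        obtain ⟨ek, hf⟩ := hzero k hk
        rw [ek, hinl y hy, ← map_mul, ← map_mul]
        congr 1
        exact Subtype.ext (Subgroup.mem_center_iff.1 (hfc hf) _).symm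
      perfect := by
        intro y hy
        have hle : C.map (pull σ).subtype ≤ ⊤ := le_top
        have hC : commutator C = ⊤ := by
          rw [eq_top_iff]
          intro c _
          have h1 : (c : pull σ) ∈ (commutator C).map C.subtype := by
            rw [map_commutator_eq, Subgroup.range_subtype, hperf]; exact c.2
          obtain ⟨c', hc', e⟩ := Subgroup.mem_map.1 h1
          rwa [← Subtype.ext e]
        have h2 : (SemidirectProduct.inl : C →* E) y.left ∈ (commutator C).map SemidirectProduct.inl :=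
          Subgroup.mem_map_of_mem _ (hC ▸ Subgroup.mem_top _)
        rw [map_commutator_eq, ← hinl y hy] at h2
        have h3 : (SemidirectProduct.inl : C →* E).range ≤ (commutator Cfsg.Spor.Fi24).comap π := by
          rintro _ ⟨c, rfl⟩
          rw [Subgroup.mem_comap]
          rw [SemidirectProduct.lift_inl]
          exact (f (c : pull σ)).2
        exact Subgroup.commutator_mono h3 h3 h2
      L' := SemidirectProduct.inr (Multiplicative.ofAdd 1)
      L'sq := by
        rw [← map_mul, show Multiplicative.ofAdd (1 : ZMod 2) * Multiplicative.ofAdd 1 = 1 by decide, map_one]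
      πL := by
        rw [SemidirectProduct.lift_inr]
        exact hpick L hL2 }
  let p : V.π.ker →* σ.ker :=
    { toFun := fun k => ⟨(k.1.left : pull σ).1.1, ((hker _ (hzero k.1 k.2).2)).1⟩
      map_one' := rfl
      map_mul' := fun a b => by
        refine Subtype.ext ?_
        show ((a.1.left * (act a.1.right) b.1.left : C) : pull σ).1.1 = _
        rw [show a.1.right = 1 from hDpi a.1 (a.2 ▸ one_mem _), map_one]
        rfl }
  refine ⟨E, inferInstance, inferInstance, V, p, ?_⟩
  rintro ⟨k, hk⟩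
  have hk1 : k ∈ commutator Γ := hcom hk
  have hproj : C.map ((MonoidHom.fst Γ Γ).comp (pull σ).subtype) = commutator Γ := by
    have hs : Function.Surjective ((MonoidHom.fst Γ Γ).comp (pull σ).subtype) := fun a => by
      obtain ⟨b, hb⟩ := hsur ⟨_, hLD (σ a)⟩
      exact ⟨⟨(a, b), (mem_pull σ).2 (congrArg Subtype.val hb)⟩, rfl⟩
    rw [hCdef, map_commutator_eq, MonoidHom.range_eq_top.2 hs, ← _root_.commutator_def]
  rw [← hproj] at hk1
  obtain ⟨c, hc, rfl⟩ := Subgroup.mem_map.1 hk1
  refine ⟨⟨SemidirectProduct.inl ⟨c, hc⟩, ?_⟩, rfl⟩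
  show π (SemidirectProduct.inl ⟨c, hc⟩) = 1
  rw [SemidirectProduct.lift_inl]
  exact congrArg Subtype.val (show f c = 1 from hk)

/-- The kernel of a finite stem extension of Fi24' is an image of the cyclic group of order 3. -/
theorem upper [Finite Γ] (hσ : Cfsg.IsStemExtension σ) :
    ∃ q : Multiplicative (ZMod 3) →* σ.ker, Function.Surjective q := by
  obtain ⟨E, _, _, V, p, hp⟩ := exists_cover σ hσ
  obtain ⟨z, hz, h3, hgen⟩ := V.kernel_small
  let zk : V.π.ker := ⟨z, hz⟩
  have hzk : p zk ^ 3 = 1 := by rw [← map_pow, show zk ^ 3 = 1 from Subtype.ext h3, map_one]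
  let ψ : ℤ →+ Additive σ.ker := zmultiplesHom (Additive σ.ker) (Additive.ofMul (p zk))
  have hψ : ψ ((3 : ℕ) : ℤ) = 0 := by
    show ((3 : ℕ) : ℤ) • Additive.ofMul (p zk) = 0
    rw [natCast_zsmul, ← ofMul_pow, hzk]
    rfl
  let qa : ZMod 3 →+ Additive σ.ker := ZMod.lift 3 ⟨ψ, hψ⟩
  refine ⟨AddMonoidHom.toMultiplicativeLeft qa, fun y => ?_⟩
  obtain ⟨k, rfl⟩ := hp y
  obtain ⟨i, hi⟩ := Subgroup.mem_zpowers_iff.1 (hgen k.1 k.2)
  refine ⟨Multiplicative.ofAdd (i : ZMod 3), ?_⟩
  show (qa (i : ZMod 3)).toMul = p k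
  rw [show k = zk ^ i from Subtype.ext (by rw [SubgroupClass.coe_zpow]; exact hi.symm), map_zpow,
    show qa (i : ZMod 3) = ψ i from ZMod.lift_coe 3 ⟨ψ, hψ⟩ i]
  rfl

end Ext

end H15.Fi24Up
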