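import Cfsg.Agent.H15.Fi24Up.Defs

/-!
Soundness of the deduction checker: the entries give the values of a system of labels.
-/

set_option autoImplicit false

namespace H15.Fi24Up

open H93.Coset

variable {A : Type} [AddCommGroup A]

/-- total of the labels along a word, twisted by `θ` for each later letter -/
def tot (θ : A →+ A) (lab : ℕ → ℕ → A) (T : ℕ → ℕ → ℕ) : List ℕ → ℕ → A
  | [], _ => 0
  | g :: w, c => (if w.length % 2 = 1 then θ (lab g c) else lab g c) + tot θ lab T w (T g c)

/-- A system of labels on a table, closed on the first 79 relators. -/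
structure Labels (A : Type) [AddCommGroup A] (T : ℕ → ℕ → ℕ) (par : ℕ → ℕ)
    (ws : List (List ℕ)) where
  θ : A →+ A
  θθ : ∀ a, θ (θ a) = a
  lab : ℕ → ℕ → A
  closed : ∀ g < 12, ∀ c < 306936, T g c < 306936
  sym : ∀ g < 12, ∀ c < 306936, θ (lab g c) + lab g (T g c) = 0
  zero : ∀ g < 11, lab g 0 = 0
  tree : ∀ g c, g < 12 → c < 306936 → treeOK T par g c = true → lab g c = 0
  e : A
  two_e : e + e = 0
  θe : θ e = e
  letters : ∀ w ∈ ws, ∀ g ∈ w, g < 12
  rel : ∀ r < 79, ∀ c < 306936, tot θ lab T (ws.getD r []) c = if r = 74 then e else 0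

namespace Labels

variable {T : ℕ → ℕ → ℕ} {par : ℕ → ℕ} {ws : List (List ℕ)} (D : Labels A T par ws)

/-- the first parameter -/
def p1 : A := D.lab 8 349
/-- the second parameter -/
def p2 : A := D.lab 10 4363
/-- the third parameter -/
def p3 : A := D.lab 9 121103

/-- value of a combination -/
def val (f : Frm) : A :=
  f.a • D.p1 + f.b • D.θ D.p1 + f.c • D.p2 + f.d • D.θ D.p2 + f.m • D.p3 + f.n • D.e

theorem val_zero : D.val Frm.zero = 0 := by simp [val, Frm.zero]

theorem val_add (x y : Frm) : D.val (x.add y) = D.val x + D.val y := by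
  simp only [val, Frm.add, add_smul]; abel

theorem val_neg (x : Frm) : D.val x.neg = -D.val x := by
  simp only [val, Frm.neg, neg_smul]; abel

theorem val_smul (k : ℤ) (x : Frm) : D.val (x.smul k) = k • D.val x := by
  simp only [val, Frm.smul, mul_smul, smul_add]

theorem val_theta (h3 : D.θ D.p3 = -D.p3) (x : Frm) : D.val x.theta = D.θ (D.val x) := by
  simp only [val, Frm.theta, map_add, map_zsmul, D.θθ, h3, D.θe, neg_smul, smul_neg]; abel

theorem val_unit_n : D.val Frm.unitN = D.e := by simp [val, Frm.unitN]

theorem eq_of_eqb {x y : Frm} (h : x.eqb y = true) : D.val x = D.val y := by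
  have h1 := congrArg D.val (Frm.isZero_eq h)
  rw [val_zero, val_add, val_neg] at h1
  exact sub_eq_zero.mp (by rw [sub_eq_add_neg]; exact h1)

/-- an entry has the value of its edge -/
def Good (ec : ℕ → ℕ) (i : ℕ) : Prop :=
  eG ec i < 12 ∧ eC ec i < 306936 ∧ D.lab (eG ec i) (eC ec i) = D.val (eV ec i)

theorem lab_swap {g c : ℕ} (hg : g < 12) (hc : c < 306936) :
    D.lab g (T g c) = -D.θ (D.lab g c) :=
  eq_neg_of_add_eq_zero_right (D.sym g hg c hc)

variable (ec : ℕ → ℕ)

/-- meaning of a state of a scan -/
def mean (X : A) (s : Acc) : A := D.val s.f + s.u • X + s.v • D.θ X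

theorem step_sound (h3 : D.θ D.p3 = -D.p3) {i j g c : ℕ} (hgood : ∀ k < i, D.Good ec k)
    (hi : eG ec i < 12) (hci : eC ec i < 306936)
    (p : Bool) (s s' : Acc) (h : step T ec i j g c p s = some s') :
    D.mean (D.lab (eG ec i) (eC ec i)) s' =
      (if p = true then D.θ (D.lab g c) else D.lab g c) + D.mean (D.lab (eG ec i) (eC ec i)) s := by
  unfold step at h
  split at h
  case isFalse => simp at h
  rename_i hg
  simp only [beq_iff_eq] at hg
  split at h
  · rename_i hc
    simp only [beq_iff_eq] at hc
    split at h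
    · rename_i hj
      obtain rfl := Option.some.inj h
      have hv := (hgood j hj).2.2
      rw [hg, hc] at hv
      cases p <;> simp [mean, Frm.thetaIf, D.val_add, D.val_theta h3, hv] <;> abel
    · split at h
      case isFalse => simp at h
      rename_i hj
      simp only [beq_iff_eq] at hj
      subst hj
      cases p <;> simp only [Bool.false_eq_true, if_false, if_true] at h <;>
        obtain rfl := Option.some.inj h <;>
        simp [mean, hg, hc, add_smul] <;> abel
  · split at h
    case isFalse => simp at h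
    rename_i hc
    simp only [beq_iff_eq] at hc
    split at h
    · rename_i hj
      obtain rfl := Option.some.inj h
      obtain ⟨hg', hc', hv⟩ := hgood j hj
      have hs := D.lab_swap hg' hc'
      rw [hg] at hs hv
      rw [hc, hv] at hs
      cases p <;> simp [mean, Frm.thetaIf, D.val_add, D.val_neg, D.val_theta h3, hs, D.θθ] <;> abel
    · split at h
      case isFalse => simp at h
      rename_i hj
      simp only [beq_iff_eq] at hj
      subst hj
      have hs := D.lab_swap hi hci
      rw [hg, hc] at hs
      cases p <;> simp only [Bool.false_eq_true, if_false, if_true] at h <;>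
        obtain rfl := Option.some.inj h <;>
        simp [mean, hg, hs, D.θθ, sub_smul] <;> abel

theorem scan_sound (h3 : D.θ D.p3 = -D.p3) {i : ℕ} (hgood : ∀ k < i, D.Good ec k)
    (hi : eG ec i < 12) (hci : eC ec i < 306936) :
    ∀ (w : List ℕ) (c refs : ℕ) (s s' : Acc), scan T ec i w c refs s = some s' →
      D.mean (D.lab (eG ec i) (eC ec i)) s' =
        tot D.θ D.lab T w c + D.mean (D.lab (eG ec i) (eC ec i)) s := by
  intro w
  induction w with
  | nil =>
    intro c refs s s' h
    obtain rfl := Option.some.inj h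
    simp [tot]
  | cons g w ih =>
    intro c refs s s' h
    unfold scan at h
    simp only [force_eq] at h
    split at h
    · simp at h
    · rename_i s'' hs
      have h2 := D.step_sound ec h3 hgood hi hci _ s s'' hs
      rw [ih _ _ s'' s' h, h2, tot]
      simp only [beq_iff_eq]
      abel

theorem mean_start (X : A) : D.mean X Acc.start = 0 := by simp [mean, Acc.start, val_zero]

theorem val_rhs (r : ℕ) : D.val (rhs r) = if r = 74 then D.e else 0 := by
  by_cases h : r = 74 <;> simp [rhs, h, val_unit_n, val_zero]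

theorem entry_good (h3 : D.θ D.p3 = -D.p3) {i s : ℕ} (hgood : ∀ k < i, D.Good ec k)
    (h : entryOK T par ec ws i s = true) : D.Good ec i := by
  unfold entryOK at h
  simp only [Bool.and_eq_true, decide_eq_true_eq] at h
  obtain ⟨⟨hg, hc⟩, h⟩ := h
  refine ⟨hg, hc, ?_⟩
  set X := D.lab (eG ec i) (eC ec i) with hX
  split at h
  · rename_i hr
    simp only [force_eq, Bool.and_eq_true, decide_eq_true_eq] at h
    obtain ⟨hc0, h⟩ := h
    split at h
    · simp at h
    rename_i a ha
    have hm := D.scan_sound ec h3 hgood hg hc _ _ _ _ _ ha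
    rw [mean_start, add_zero, D.rel _ hr _ hc0, ← D.val_rhs, ← hX] at hm
    have hm0 : D.val (a.f.add (rhs (Nat.land s 127)).neg) = -(a.u • X + a.v • D.θ X) := by
      rw [val_add, val_neg, ← hm, mean]; abel
    unfold solved at h
    simp only at h
    split at h
    · rename_i hloop
      simp only [beq_iff_eq] at hloop
      have hθ : D.θ X = -X := by
        have hs := D.lab_swap hg hc
        rw [hloop, ← hX] at hs
        exact (neg_eq_iff_eq_neg.mpr hs).symm
      simp only [Bool.and_eq_true, Bool.or_eq_true, beq_iff_eq] at h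
      obtain ⟨hu, hz⟩ := h
      have hz' := congrArg D.val (Frm.isZero_eq hz)
      rw [val_zero, val_add, val_smul, hm0, hθ, smul_neg, ← sub_eq_add_neg, ← sub_smul] at hz'
      rcases hu with hu | hu <;> rw [hu] at hz' <;> simp at hz'
      · exact (neg_add_eq_zero.mp hz')
      · exact (add_neg_eq_zero.mp hz')
    · simp only [Bool.and_eq_true, Bool.or_eq_true, beq_iff_eq] at h
      obtain ⟨hu, hz⟩ := h
      have hz' := congrArg D.val (Frm.isZero_eq hz)
      rw [val_zero, val_add, hm0, val_add, val_smul, val_smul, D.val_theta h3] at hz'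
      rcases hu with ⟨hu | hu, hv⟩ | ⟨hv | hv, hu⟩ <;> rw [hu, hv] at hz' <;>
        simp only [one_smul, zero_smul, neg_smul, add_zero, zero_add] at hz'
      · exact neg_add_eq_zero.mp hz'
      · rw [neg_neg] at hz'; exact add_neg_eq_zero.mp hz'
      · exact (Function.LeftInverse.injective D.θθ) (neg_add_eq_zero.mp hz')
      · rw [neg_neg] at hz'; exact (Function.LeftInverse.injective D.θθ) (add_neg_eq_zero.mp hz')
  · split at h
    · simp only [Bool.and_eq_true, beq_iff_eq, decide_eq_true_eq] at h
      obtain ⟨⟨h1, h2⟩, hz⟩ := h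
      rw [hX, h1, D.zero _ h2, Frm.isZero_eq hz, val_zero]
    · split at h
      · simp only [Bool.and_eq_true] at h
        rw [hX, D.tree _ _ hg hc h.1, Frm.isZero_eq h.2, val_zero]
      · split at h
        · simp only [Bool.and_eq_true, beq_iff_eq] at h
          rw [hX, h.1.1, h.1.2, D.eq_of_eqb h.2]; simp [val, Frm.unitA, p1]
        · split at h
          · simp only [Bool.and_eq_true, beq_iff_eq] at h
            rw [hX, h.1.1, h.1.2, D.eq_of_eqb h.2]; simp [val, Frm.unitC, p2]
          · split at h
            · simp only [Bool.and_eq_true, beq_iff_eq] at h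
              rw [hX, h.1.1, h.1.2, D.eq_of_eqb h.2]; simp [val, Frm.unitM, p3]
            · simp at h

theorem all_good (h3 : D.θ D.p3 = -D.p3) {ne : ℕ}
    (h : ∀ i < ne, ∃ s, entryOK T par ec ws i s = true) : ∀ i < ne, D.Good ec i := by
  intro i
  induction i using Nat.strong_induction_on with
  | _ i ih =>
    intro hi
    obtain ⟨s, hs⟩ := h i hi
    exact D.entry_good ec h3 (fun k hk => ih k hk (hk.trans hi)) hs

theorem eq_sound (h3 : D.θ D.p3 = -D.p3) {ne : ℕ} (hne : eG ec ne < 12) (hce : eC ec ne < 306936)
    (hgood : ∀ k < ne, D.Good ec k) {w : List ℕ} {c refs : ℕ} {F : Frm}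
    (h : eqOK T ec ne w c refs F = true) : c < 306936 ∧ tot D.θ D.lab T w c = D.val F := by
  unfold eqOK at h
  simp only [Bool.and_eq_true, decide_eq_true_eq] at h
  refine ⟨h.1, ?_⟩
  obtain ⟨-, h⟩ := h
  split at h
  · simp at h
  rename_i a ha
  simp only [Bool.and_eq_true, beq_iff_eq] at h
  obtain ⟨⟨hu, hv⟩, hf⟩ := h
  have hm := D.scan_sound ec h3 hgood hne hce _ _ _ _ _ ha
  rw [mean_start, add_zero, mean, hu, hv, zero_smul, zero_smul, add_zero, add_zero,
    D.eq_of_eqb hf] at hm
  exact hm.symm

end Labels

theorem blockOK_spec {T : ℕ → ℕ → ℕ} {par ec : ℕ → ℕ} {ws : List (List ℕ)} :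
    ∀ {i : ℕ} {l : List ℕ}, blockOK T par ec ws i l = true →
      ∀ q < l.length, ∃ s, entryOK T par ec ws (i + q) s = true
  | _, [], _, q, hq => by simp at hq
  | i, s :: l, h, q, hq => by
    simp only [blockOK, force_eq, Bool.and_eq_true] at h
    cases q with
    | zero => exact ⟨s, h.1⟩
    | succ q =>
      obtain ⟨t, ht⟩ := blockOK_spec h.2 q (by simpa using hq)
      exact ⟨t, by rwa [show i + (q + 1) = i + 1 + q by omega]⟩

end H15.Fi24Up
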