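import Cfsg.Agent.H15.Fi24Up.Cover

/-!
The lift of the last generator is adjusted so that all Coxeter relators but one hold exactly in a
cover of Fi24, and the remaining one up to a central involution.
-/

set_option autoImplicit false
set_option maxRecDepth 100000

namespace H15.Fi24Up

open H93.Coset H93 H47.Fi24

/-- the generators that commute with the last one -/
def farList : List ℕ := [0, 1, 2, 3, 4, 5, 6, 7, 9]

/-- Lifts of all generators with the relators other than the central one. -/
structure Sys {E : Type} [Group E] (V : Cover E) where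
  x : ℕ → E
  πx : ∀ g < 12, V.π (x g) = gen g
  sq : ∀ g < 12, x g * x g = 1
  inj : ∀ y ∈ Subgroup.closure (x '' {g | g < 11}), V.π y = 1 → y = 1
  far : ∀ h ∈ farList, x 11 * x h * x 11 = x h
  link : (x 11 * x 10) ^ 3 = 1
  π_odd : V.π ((x 8 * x 11) ^ 3) = 1
  odd_sq : (x 8 * x 11) ^ 3 * (x 8 * x 11) ^ 3 = 1
  odd_fix : V.tw ((x 8 * x 11) ^ 3) = (x 8 * x 11) ^ 3

theorem gen_words {a b m : ℕ} (h : known (expand ([a, b], m)) = true) :
    (gen b * gen a) ^ m = 1 := by
  have := known_spec h
  rw [ev_expand] at this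
  simpa [ev] using this

namespace Cover

theorem cube_conj {M : Type} [Group M] (a b : M) :
    a * (b * a) ^ 3 * a = (a * b) ^ 3 * (a * a) ∧ a * (a * b) ^ 3 * a = (a * a) * (b * a) ^ 3 := by
  simp only [pow_succ, pow_zero, one_mul, mul_assoc, and_self]

variable {E : Type} [Group E] (V : Cover E)


/-- Conjugating thrice by an element that moves `b` by the kernel element `d`. -/
theorem thrice {w b d : E} (hw : w * b * w⁻¹ = d * b) (hd : w * d = d * w) :
    w ^ 3 * b * (w ^ 3)⁻¹ = d ^ 3 * b := by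
  have hd' : w * d * w⁻¹ = d := by rw [hd, mul_inv_cancel_right]
  calc w ^ 3 * b * (w ^ 3)⁻¹ = w * (w * (w * b * w⁻¹) * w⁻¹) * w⁻¹ := by
        rw [pow_succ, pow_two]; group
    _ = w * (w * (d * b) * w⁻¹) * w⁻¹ := by rw [hw]
    _ = w * ((w * d * w⁻¹) * (w * b * w⁻¹)) * w⁻¹ := by group
    _ = w * (d * (d * b)) * w⁻¹ := by rw [hd', hw]
    _ = (w * d * w⁻¹) * ((w * d * w⁻¹) * (w * b * w⁻¹)) := by group
    _ = d ^ 3 * b := by rw [hd', hw, pow_succ, pow_two]; group

theorem exists_sys [Finite E] : Nonempty (Sys V) := by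
  obtain ⟨f, hf, hf10, hinj⟩ := V.exists_base
  have h10 : gen 10 * gen 11 * gen 10 * (gen 10 * gen 11)⁻¹ = gen 11 := by
    have h := gen_words (a := 11) (b := 10) (m := 3) (by decide +kernel)
    rw [mul_inv_rev, inv_eq_of_mul_eq_one_right (gen_inv (k := 10) (by norm_num)),
      inv_eq_of_mul_eq_one_right (gen_inv (k := 11) (by norm_num))]
    rw [pow_succ, pow_two] at h
    calc gen 10 * gen 11 * gen 10 * (gen 11 * gen 10)
        = (gen 10 * gen 11 * (gen 10 * gen 11) * (gen 10 * gen 11)) * (gen 11)⁻¹ := by group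
      _ = gen 11 := by
          rw [h, one_mul, inv_eq_of_mul_eq_one_right (gen_inv (k := 11) (by norm_num))]
  obtain ⟨y, hy⟩ := V.surj (gen 10 * gen 11)
  set z := y * V.L' * y⁻¹ with hzdef
  have hπz : V.π z = gen 11 := by rw [hzdef, map_mul, map_mul, map_inv, hy, V.πL, h10]
  have hz2 : z * z = 1 := by
    rw [hzdef, show y * V.L' * y⁻¹ * (y * V.L' * y⁻¹) = y * (V.L' * V.L') * y⁻¹ by group, V.L'sq,
      mul_one, mul_inv_cancel]
  clear_value z
  have h11 : (11 : ℕ) < 12 := by norm_num
  have hmem : ∀ g < 11, f g ∈ Subgroup.closure (f '' {g | g < 11}) := fun g hg =>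
    Subgroup.subset_closure ⟨g, hg, rfl⟩
  have hfarlt : ∀ h ∈ farList, h < 11 := by decide
  set d : ℕ → E := fun h => z * f h * z * f h with hddef
  clear_value d
  have hπd : ∀ h ∈ farList, V.π (d h) = 1 := by
    intro h hh
    have hw := gen_words (a := h) (b := 11) (m := 2)
      ((show ∀ h ∈ farList, known (expand ([h, 11], 2)) = true by decide +kernel) h hh)
    rw [hddef]
    simp only [map_mul, hπz, (hf h (hfarlt h hh)).1]
    rw [pow_two] at hw
    simpa [mul_assoc] using hw
  have hconj : ∀ h ∈ farList, z * f h * z = d h * f h := fun h hh => by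
    rw [hddef]; simp only
    rw [mul_assoc (z * f h * z), (hf h (hfarlt h hh)).2, mul_one]
  have hzk : ∀ k, V.π k = 1 → z * k = V.tw k * z := fun k hk => V.pass h11 hπz hz2 hk
  have hfk : ∀ g < 11, ∀ k, V.π k = 1 → f g * k = V.tw k * f g := fun g hg k hk =>
    V.pass (by omega) (hf g hg).1 (hf g hg).2 hk
  have hθd : ∀ h ∈ farList, V.tw (d h) = (d h)⁻¹ := by
    intro h hh
    have hg := hfarlt h hh
    have e := hfk h hg (d h) (hπd h hh)
    have e2 : V.tw (d h) = f h * d h * f h := by rw [e, mul_assoc, (hf h hg).2, mul_one]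
    rw [e2, hddef]; simp only
    rw [mul_inv_rev, mul_inv_rev, mul_inv_rev, inv_eq_of_mul_eq_one_right (hf h hg).2,
      inv_eq_of_mul_eq_one_right hz2,
      show f h * (z * f h * z * f h) * f h = f h * z * f h * z * (f h * f h) by group, (hf h hg).2,
      mul_one]
    group
  have hpair : ∀ h ∈ farList, ∀ h' ∈ farList, ∀ m : ℕ,
      known (expand ([h', h], m)) = true → (d h * (d h')⁻¹) ^ m = 1 := by
    intro h hh h' hh' m hm
    have hg := hfarlt h hh
    have hg' := hfarlt h' hh'
    have hw : (f h * f h') ^ m = 1 := by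
      refine hinj _ (pow_mem (mul_mem (hmem h hg) (hmem h' hg')) m) ?_
      rw [map_pow, map_mul, (hf h hg).1, (hf h' hg').1]
      exact gen_words hm
    have hc : z * (f h * f h') * z⁻¹ = (d h * (d h')⁻¹) * (f h * f h') := by
      rw [inv_eq_of_mul_eq_one_right hz2,
        show z * (f h * f h') * z = (z * f h * z) * (z⁻¹ * f h' * z) by group,
        inv_eq_of_mul_eq_one_right hz2, hconj h hh, hconj h' hh', ← hθd h' hh',
        show d h * f h * (d h' * f h') = d h * (f h * d h') * f h' by group, hfk h hg _ (hπd h' hh')]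
      group
    have hk : V.π (d h * (d h')⁻¹) = 1 := by rw [map_mul, map_inv, hπd h hh, hπd h' hh', inv_one, mul_one]
    have hcom := V.cen _ hk (f h * f h') (by
      rw [map_mul, (hf h hg).1, (hf h' hg').1]; exact mul_gen_mem (by omega) (by omega))
    have h1 : (z * (f h * f h') * z⁻¹) ^ m = 1 := by rw [conj_pow, hw]; group
    rw [hc, (show Commute _ _ from hcom).mul_pow, hw, mul_one] at h1
    exact h1
  have hsame : ∀ h ∈ farList, ∀ h' ∈ farList, ∀ k ∈ farList,
      known (expand ([h', h], 3)) = true → known (expand ([k, h], 2)) = true →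
        known (expand ([k, h'], 2)) = true → d h = d h' := by
    intro h hh h' hh' k hk a b c
    have e3 := hpair h hh h' hh' 3 a
    have u := hpair h hh k hk 2 b
    have v := hpair h' hh' k hk 2 c
    have pu : V.π (d h * (d k)⁻¹) = 1 := by rw [map_mul, map_inv, hπd h hh, hπd k hk, inv_one, mul_one]
    have pv : V.π (d h' * (d k)⁻¹) = 1 := by rw [map_mul, map_inv, hπd h' hh', hπd k hk, inv_one, mul_one]
    have e2 : (d h * (d h')⁻¹) ^ 2 = 1 := by
      rw [show d h * (d h')⁻¹ = (d h * (d k)⁻¹) * (d h' * (d k)⁻¹)⁻¹ by group,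
        (show Commute _ _ from V.comm_ker pu (by rw [map_inv, pv, inv_one])).mul_pow, u, inv_pow, v,
        inv_one, mul_one]
    rw [pow_succ, e2, one_mul] at e3
    exact mul_inv_eq_one.1 e3
  have hconst : ∀ h ∈ farList, d h = d 0 := by
    have s : ∀ h h' k : ℕ, (decide (h ∈ farList) && decide (h' ∈ farList) && decide (k ∈ farList) &&
        known (expand ([h', h], 3)) && known (expand ([k, h], 2)) && known (expand ([k, h'], 2))) = true →
          d h = d h' := by
      intro h h' k e
      simp only [Bool.and_eq_true, decide_eq_true_eq] at e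
      exact hsame h e.1.1.1.1.1 h' e.1.1.1.1.2 k e.1.1.1.2 e.1.1.2 e.1.2 e.2
    have e50 := s 5 0 9 (by decide +kernel)
    have e10 := s 1 0 9 (by decide +kernel)
    have e21 := s 2 1 9 (by decide +kernel)
    have e41 := s 4 1 9 (by decide +kernel)
    have e32 := s 3 2 5 (by decide +kernel)
    have e73 := s 7 3 5 (by decide +kernel)
    have e97 := s 9 7 5 (by decide +kernel)
    have e64 := s 6 4 9 (by decide +kernel)
    intro h hh
    fin_cases hh
    · rfl
    · exact e10
    · exact e21.trans e10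
    · exact e32.trans (e21.trans e10)
    · exact e41.trans e10
    · exact e50
    · exact e64.trans (e41.trans e10)
    · exact e73.trans (e32.trans (e21.trans e10))
    · exact e97.trans (e73.trans (e32.trans (e21.trans e10)))
  have h0 : (0 : ℕ) ∈ farList := by decide
  -- the braid defect with the eleventh generator
  set e := (z * f 10) ^ 3 with hedef
  clear_value e
  have hπe : V.π e = 1 := by
    rw [hedef, map_pow, map_mul, hπz, (hf 10 (by norm_num)).1]
    exact gen_words (by decide +kernel)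
  have hcd : z * f 10 * d 0 = d 0 * (z * f 10) := (V.cen _ (hπd 0 h0) (z * f 10) (by
    rw [map_mul, hπz, (hf 10 (by norm_num)).1]; exact mul_gen_mem h11 (by norm_num))).symm
  have hθe : V.tw e = e⁻¹ := by
    have h1 := hfk 10 (by norm_num) e hπe
    have e2 : V.tw e = f 10 * e * f 10 := by rw [h1, mul_assoc, (hf 10 (by norm_num)).2, mul_one]
    rw [e2, hedef, ← inv_pow, mul_inv_rev, inv_eq_of_mul_eq_one_right hz2,
      inv_eq_of_mul_eq_one_right (hf 10 (by norm_num)).2]
    calc f 10 * (z * f 10) ^ 3 * f 10 = (f 10 * z) ^ 3 * (f 10 * f 10) := (cube_conj _ _).1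
      _ = (f 10 * z) ^ 3 := by rw [(hf 10 (by norm_num)).2, mul_one]
  have hed : e ^ 2 = d 0 ^ 3 := by
    have hfg : f 10 * f 0 * (f 10)⁻¹ = f 0 := by
      refine mul_inv_eq_one.1 (hinj _ ?_ ?_)
      · exact mul_mem (mul_mem (mul_mem (Subgroup.subset_closure ⟨10, by norm_num, rfl⟩)
          (Subgroup.subset_closure ⟨0, by norm_num, rfl⟩))
          (inv_mem (Subgroup.subset_closure ⟨10, by norm_num, rfl⟩)))
          (inv_mem (Subgroup.subset_closure ⟨0, by norm_num, rfl⟩))
      · rw [map_mul, map_mul, map_mul, map_inv, map_inv, (hf 10 (by norm_num)).1, (hf 0 (by norm_num)).1,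
          (L_comm (k := 0) (by norm_num)).symm.eq, mul_inv_cancel_right, mul_inv_cancel]
    have hw : z * f 10 * f 0 * (z * f 10)⁻¹ = d 0 * f 0 := by
      rw [show z * f 10 * f 0 * (z * f 10)⁻¹ = z * (f 10 * f 0 * (f 10)⁻¹) * z⁻¹ by group, hfg,
        inv_eq_of_mul_eq_one_right hz2, hconj 0 h0]
    have h3 := thrice hw hcd
    rw [← hedef, mul_assoc, hfk 0 (by norm_num) e⁻¹ (by rw [map_inv, hπe, inv_one]), ← mul_assoc,
      V.tw_inv, hθe, inv_inv] at h3
    rw [pow_two]
    exact mul_right_cancel h3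
  set a := d 0 * e⁻¹ with hadef
  clear_value a
  have hπa : V.π a = 1 := by rw [hadef, map_mul, map_inv, hπd 0 h0, hπe, inv_one, mul_one]
  have hθa : V.tw a = a⁻¹ := by
    rw [hadef, V.tw_mul, V.tw_inv, hθd 0 h0, hθe, mul_inv_rev, inv_inv]
    exact V.comm_ker (by rw [map_inv, hπd 0 h0, inv_one]) hπe
  have hde : Commute (d 0) e⁻¹ := V.comm_ker (hπd 0 h0) (by rw [map_inv, hπe, inv_one])
  have ha2 : a * a * d 0 = 1 := by
    rw [hadef, ← pow_two, hde.mul_pow, inv_pow, hed, pow_succ' (d 0) 2, mul_inv_rev]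
    group
  have ha3 : a ^ 3 * e = 1 := by
    rw [hadef, hde.mul_pow, ← hed]
    group
  set x : ℕ → E := fun g => if g = 11 then a * z else f g with hxdef
  have hx11 : x 11 = a * z := by simp [hxdef]
  have hxlt : ∀ g < 11, x g = f g := fun g hg => by rw [hxdef]; simp only; rw [if_neg (by omega)]
  have hπx : ∀ g < 12, V.π (x g) = gen g := by
    intro g hg
    rcases Nat.lt_or_ge g 11 with h | h
    · rw [hxlt g h]; exact (hf g h).1
    · obtain rfl : g = 11 := by omega
      rw [hx11, map_mul, hπa, one_mul, hπz]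
  have hza : z * a = a⁻¹ * z := by rw [hzk a hπa, hθa]
  have hsq : ∀ g < 12, x g * x g = 1 := by
    intro g hg
    rcases Nat.lt_or_ge g 11 with h | h
    · rw [hxlt g h]; exact (hf g h).2
    · obtain rfl : g = 11 := by omega
      rw [hx11, mul_assoc a, ← mul_assoc z, hza, mul_assoc a⁻¹, hz2, mul_one, mul_inv_cancel]
  have himg : x '' {g | g < 11} = f '' {g | g < 11} := Set.image_congr fun g hg => hxlt g hg
  have hfar : ∀ h ∈ farList, x 11 * x h * x 11 = x h := by
    intro h hh
    have hg := hfarlt h hh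
    rw [hx11, hxlt h hg]
    calc a * z * f h * (a * z) = a * z * (f h * a) * z := by group
      _ = a * (z * V.tw a) * f h * z := by rw [hfk h hg a hπa]; group
      _ = a * (V.tw (V.tw a) * z) * f h * z := by rw [hzk _ (V.π_tw hπa)]
      _ = a * a * (z * f h * z) := by rw [V.tw_tw]; group
      _ = a * a * d 0 * f h := by rw [hconj h hh, hconst h hh]; group
      _ = f h := by rw [ha2, one_mul]
  have hlink : (x 11 * x 10) ^ 3 = 1 := by
    have hc : Commute a (z * f 10) := V.cen a hπa _ (by
      rw [map_mul, hπz, (hf 10 (by norm_num)).1]; exact mul_gen_mem h11 (by norm_num))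
    rw [hx11, hxlt 10 (by norm_num), mul_assoc, hc.mul_pow, ← hedef, ha3]
  -- the remaining braid defect
  set o := (x 8 * x 11) ^ 3 with hodef
  clear_value o
  have hπo : V.π o = 1 := by
    rw [hodef, map_pow, map_mul, hπx 8 (by norm_num), hπx 11 h11]
    exact gen_words (by decide +kernel)
  have hpass : ∀ g < 12, ∀ k, V.π k = 1 → x g * k = V.tw k * x g := fun g hg k hk =>
    V.pass hg (hπx g hg) (hsq g hg) hk
  have hi : ∀ g < 12, (x g)⁻¹ = x g := fun g hg => inv_eq_of_mul_eq_one_right (hsq g hg)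
  have h82 : x 8 * x 2 * (x 8)⁻¹ = x 2 := by
    refine mul_inv_eq_one.1 (hinj _ ?_ ?_)
    · rw [← himg]
      exact mul_mem (mul_mem (mul_mem (Subgroup.subset_closure ⟨8, by norm_num, rfl⟩)
        (Subgroup.subset_closure ⟨2, by norm_num, rfl⟩))
        (inv_mem (Subgroup.subset_closure ⟨8, by norm_num, rfl⟩)))
        (inv_mem (Subgroup.subset_closure ⟨2, by norm_num, rfl⟩))
    · rw [hi 8 (by norm_num), hi 2 (by norm_num)]
      have h := gen_words (a := 2) (b := 8) (m := 2) (by decide +kernel)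
      rw [pow_two] at h
      simpa [map_mul, hπx 8 (by norm_num), hπx 2 (by norm_num), mul_assoc] using h
  have hw2 : x 8 * x 11 * x 2 * (x 8 * x 11)⁻¹ = 1 * x 2 := by
    rw [one_mul, show x 8 * x 11 * x 2 * (x 8 * x 11)⁻¹ = x 8 * (x 11 * x 2 * (x 11)⁻¹) * (x 8)⁻¹ by group,
      hi 11 h11, hfar 2 (by decide), h82]
  have h3 := thrice hw2 (by simp)
  have hofix : V.tw o = o := by
    rw [← hodef, one_pow, mul_assoc, hpass 2 (by norm_num) o⁻¹ (by rw [map_inv, hπo, inv_one]),
      ← mul_assoc] at h3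
    have h4 := mul_right_cancel h3
    rw [V.tw_inv, mul_inv_eq_one] at h4
    exact h4.symm
  have hoinv : V.tw o = o⁻¹ := by
    have h1 := hpass 8 (by norm_num) o hπo
    have e2 : V.tw o = x 8 * o * x 8 := by rw [h1, mul_assoc, hsq 8 (by norm_num), mul_one]
    rw [e2, hodef, ← inv_pow, mul_inv_rev, hi 8 (by norm_num), hi 11 h11]
    calc x 8 * (x 8 * x 11) ^ 3 * x 8 = (x 8 * x 8) * (x 11 * x 8) ^ 3 := (cube_conj _ _).2
      _ = (x 11 * x 8) ^ 3 := by rw [hsq 8 (by norm_num), one_mul]
  exact ⟨{ x := x, πx := hπx, sq := hsq, inj := by rw [himg]; exact hinj, far := hfar, link := hlink,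
           π_odd := hodef ▸ hπo, odd_sq := by
             rw [← hodef]; nth_rw 1 [← hofix]; rw [hoinv, inv_mul_cancel],
           odd_fix := hodef ▸ hofix }⟩

end Cover

end H15.Fi24Up
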