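import Cfsg.Agent.H15.Fi24Up.System
import Cfsg.Agent.H15.Fi24Up.Deduce

/-!
The kernel of a cover of Fi24 is cyclic of order dividing 3.
-/

set_option autoImplicit false
set_option maxRecDepth 100000

namespace H15.Fi24Up

open scoped commutatorElement

open H93.Coset H93 H47.Fi24

namespace Sys

variable {E : Type} [Group E] {V : Cover E} (S : Sys V)

/-- the subgroup covering the point stabiliser -/
def Hh : Subgroup E := Subgroup.closure (S.x '' {g | g < 11})

theorem map_Hh : S.Hh.map V.π = H := by
  rw [model.subgroup, Hh, MonoidHom.map_closure]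
  congr 1
  ext y
  constructor
  · rintro ⟨_, ⟨k, hk, rfl⟩, rfl⟩
    refine ⟨[k], (show ∀ k < 11, [k] ∈ Tab.data.words.drop Tab.data.nrel by decide +kernel) k hk, ?_⟩
    simp [ev, S.πx k (lt_trans hk (by norm_num))]
  · rintro ⟨w, hw, rfl⟩
    obtain ⟨k, hk, rfl⟩ := (show ∀ w ∈ Tab.data.words.drop Tab.data.nrel, ∃ k < 11, w = [k] by
      decide +kernel) w hw
    exact ⟨S.x k, ⟨k, hk, rfl⟩, by simp [ev, S.πx k (lt_trans hk (by norm_num))]⟩

theorem pass {g : ℕ} (hg : g < 12) {k : E} (hk : V.π k = 1) : S.x g * k = V.tw k * S.x g :=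
  V.pass hg (S.πx g hg) (S.sq g hg) hk

/-- `θ` applied as often as a word is long -/
def twn (V : Cover E) (n : ℕ) (k : E) : E := if n % 2 = 1 then V.tw k else k

theorem π_twn {n : ℕ} {k : E} (hk : V.π k = 1) : V.π (twn V n k) = 1 := by
  unfold twn; split
  · exact V.π_tw hk
  · exact hk

theorem ev_pass : ∀ (w : List ℕ), (∀ g ∈ w, g < 12) → ∀ k, V.π k = 1 →
    ev S.x w * k = twn V w.length k * ev S.x w
  | [], _, k, _ => by simp [ev, twn]
  | g :: w, hl, k, hk => by
    rw [ev, mul_assoc, S.pass (hl g List.mem_cons_self) hk, ← mul_assoc,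
      ev_pass w (fun a ha => hl a (List.mem_cons_of_mem _ ha)) _ (V.π_tw hk), mul_assoc]
    congr 1
    unfold twn
    simp only [List.length_cons]
    rcases Nat.mod_two_eq_zero_or_one w.length with h | h
    · rw [if_neg (by omega), if_pos (by omega)]
    · rw [if_pos h, if_neg (by omega), V.tw_tw]

theorem π_ev {w : List ℕ} (hl : ∀ g ∈ w, g < 12) : V.π (ev S.x w) = ev gen w := by
  induction w with
  | nil => simp [ev]
  | cons g w ih =>
    rw [ev, ev, map_mul, ih (fun a ha => hl a (List.mem_cons_of_mem _ ha)), S.πx g (hl g List.mem_cons_self)]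

theorem n_eq : Tab.data.n = 306936 := rfl
theorem ng_eq : Tab.data.ng = 12 := rfl

theorem closed {g c : ℕ} (hg : g < 12) (hc : c < 306936) : Tab.data.T g c < 306936 :=
  (model.tables.closed hg hc).1

theorem pathEnd_lt' {w : List ℕ} (hl : ∀ g ∈ w, g < 12) {c : ℕ} (hc : c < 306936) :
    pathEnd Tab.data.T w c < 306936 := pathEnd_lt model.tables w hl hc

/-- the coset of a node -/
noncomputable def node (c : ℕ) (hc : c < 306936) : Cfsg.Spor.Fi24 ⧸ H :=
  cosetOf Tab.data gen H ⟨c, hc⟩

theorem node_inj {c d : ℕ} {hc : c < 306936} {hd : d < 306936} (h : node c hc = node d hd) : c = d :=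
  congrArg Fin.val (model.bijective.1 h)

theorem ev_node {w : List ℕ} (hl : ∀ g ∈ w, g < 12) {c : ℕ} (hc : c < 306936) :
    ev gen w • node c hc = node (pathEnd Tab.data.T w c) (pathEnd_lt' hl hc) :=
  model.ev_smul_cosetOf w hl ⟨c, hc⟩

theorem node_zero : node 0 (by norm_num) = ((1 : Cfsg.Spor.Fi24) : Cfsg.Spor.Fi24 ⧸ H) :=
  Data.node_zero

theorem rep_exists (c : ℕ) (hc : c < 306936) :
    ∃ y : E, ((V.π y : Cfsg.Spor.Fi24) : Cfsg.Spor.Fi24 ⧸ H) = node c hc := by
  obtain ⟨y, hy⟩ := V.surj (node c hc).out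
  exact ⟨y, by rw [hy]; exact QuotientGroup.out_eq' _⟩

open Classical in
/-- representatives of the nodes, along the tree where possible -/
noncomputable def rep (c : ℕ) : E :=
  if pathOK Tab.data.T par c = true then ev S.x (path Tab.data.T par c)
  else if hc : c < 306936 then Classical.choose (rep_exists (V := V) c hc) else 1

theorem pathOK_spec {c : ℕ} (h : pathOK Tab.data.T par c = true) :
    (∀ g ∈ path Tab.data.T par c, g < 12) ∧ pathEnd Tab.data.T (path Tab.data.T par c) 0 = c := by
  unfold pathOK at h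
  simp only [Bool.and_eq_true, List.all_eq_true, decide_eq_true_eq, beq_iff_eq] at h
  exact h

theorem rep_node {c : ℕ} (hc : c < 306936) :
    ((V.π (S.rep c) : Cfsg.Spor.Fi24) : Cfsg.Spor.Fi24 ⧸ H) = node c hc := by
  unfold rep
  split
  · rename_i h
    obtain ⟨hl, he⟩ := pathOK_spec h
    rw [S.π_ev hl]
    have h2 := ev_node hl (c := 0) (by norm_num)
    rw [node_zero, MulAction.Quotient.smul_coe, smul_eq_mul, mul_one] at h2
    rw [h2]; simp only [he]
  · exact Classical.choose_spec (rep_exists (V := V) c hc)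

/-- `y` carries the coset of node `c` and label 0 to that of `d` and label `k` -/
def Moves (y : E) (c : ℕ) (k : E) (d : ℕ) : Prop := ∃ h ∈ S.Hh, y * S.rep c = k * S.rep d * h

theorem move_exists {g c : ℕ} (hg : g < 12) (hc : c < 306936) :
    ∃ k, V.π k = 1 ∧ S.Moves (S.x g) c k (Tab.data.T g c) := by
  have hd := closed hg hc
  have h1 : gen g • node c hc = node (Tab.data.T g c) hd := model.smul_cosetOf hg ⟨c, hc⟩
  rw [← S.rep_node hc, ← S.rep_node hd, MulAction.Quotient.smul_coe, smul_eq_mul, ← S.πx g hg,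
    ← map_mul, QuotientGroup.eq] at h1
  have h2 := inv_mem h1
  rw [mul_inv_rev, inv_inv] at h2
  obtain ⟨h, hh, hπ⟩ := Subgroup.mem_map.1 (show _ ∈ S.Hh.map V.π from S.map_Hh ▸ h2)
  refine ⟨S.x g * S.rep c * h⁻¹ * (S.rep (Tab.data.T g c))⁻¹, ?_, h, hh, by group⟩
  rw [map_mul, map_mul, map_inv, map_inv, hπ]
  group

theorem move_unique {y : E} {c d : ℕ} {k k' : E} (hk : V.π k = 1) (hk' : V.π k' = 1)
    (h1 : S.Moves y c k d) (h2 : S.Moves y c k' d) : k = k' := by
  obtain ⟨h, hh, e⟩ := h1
  obtain ⟨h', hh', e'⟩ := h2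
  have e3 : (S.rep d)⁻¹ * (k'⁻¹ * k) * S.rep d = h' * h⁻¹ := by
    rw [e] at e'
    calc (S.rep d)⁻¹ * (k'⁻¹ * k) * S.rep d = (S.rep d)⁻¹ * k'⁻¹ * (k * S.rep d * h) * h⁻¹ := by group
      _ = (S.rep d)⁻¹ * k'⁻¹ * (k' * S.rep d * h') * h⁻¹ := by rw [e']
      _ = h' * h⁻¹ := by group
  have h1' : h' * h⁻¹ = 1 := by
    refine S.inj _ (mul_mem hh' (inv_mem hh)) ?_
    rw [← e3, map_mul, map_mul, map_mul, map_inv, map_inv, hk, hk']
    group
  rw [h1'] at e3
  have : k'⁻¹ * k = 1 := by
    calc k'⁻¹ * k = S.rep d * ((S.rep d)⁻¹ * (k'⁻¹ * k) * S.rep d) * (S.rep d)⁻¹ := by group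
      _ = 1 := by rw [e3]; group
  exact (inv_mul_eq_one.1 this).symm

/-- commutative group structure on the kernel -/
@[reducible] noncomputable def kerComm (V : Cover E) : CommGroup V.π.ker :=
  { (inferInstance : Group V.π.ker) with
    mul_comm := fun a b => Subtype.ext (V.comm_ker a.2 b.2) }

/-- the twist on the kernel -/
def twK (V : Cover E) (k : V.π.ker) : V.π.ker := ⟨V.tw k, V.π_tw k.2⟩

open Classical in
/-- the label of an edge -/
noncomputable def label (g c : ℕ) : V.π.ker :=
  if h : g < 12 ∧ c < 306936 then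
    ⟨Classical.choose (S.move_exists h.1 h.2), (Classical.choose_spec (S.move_exists h.1 h.2)).1⟩
  else 1

theorem label_moves {g c : ℕ} (hg : g < 12) (hc : c < 306936) :
    S.Moves (S.x g) c (S.label g c) (Tab.data.T g c) := by
  unfold label
  rw [dif_pos ⟨hg, hc⟩]
  exact (Classical.choose_spec (S.move_exists hg hc)).2

theorem label_eq {g c : ℕ} (hg : g < 12) (hc : c < 306936) {k : E} (hk : V.π k = 1)
    (h : S.Moves (S.x g) c k (Tab.data.T g c)) : (S.label g c : E) = k :=
  S.move_unique (S.label g c).2 hk (S.label_moves hg hc) h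

/-- total of the labels along a word -/
noncomputable def total : List ℕ → ℕ → E
  | [], _ => 1
  | g :: w, c => twn V w.length (S.label g c) * total w (Tab.data.T g c)

theorem total_moves : ∀ (w : List ℕ), (∀ g ∈ w, g < 12) → ∀ c < 306936,
    V.π (S.total w c) = 1 ∧ S.Moves (ev S.x w) c (S.total w c) (pathEnd Tab.data.T w c)
  | [], _, c, _ => ⟨map_one _, 1, one_mem _, by simp [ev, total, pathEnd]⟩
  | g :: w, hl, c, hc => by
    have hg := hl g List.mem_cons_self
    have hl' : ∀ a ∈ w, a < 12 := fun a ha => hl a (List.mem_cons_of_mem _ ha)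
    obtain ⟨hπ, h', hh', e'⟩ := total_moves w hl' _ (closed hg hc)
    obtain ⟨h, hh, e⟩ := S.label_moves hg hc
    refine ⟨by rw [total, map_mul, π_twn (S.label g c).2, hπ, one_mul], h' * h, mul_mem hh' hh, ?_⟩
    show ev S.x w * S.x g * S.rep c = twn V w.length (S.label g c) * S.total w (Tab.data.T g c) *
      S.rep (pathEnd Tab.data.T w (Tab.data.T g c)) * (h' * h)
    rw [mul_assoc, e, ← mul_assoc, ← mul_assoc, S.ev_pass w hl' _ (S.label g c).2,
      mul_assoc _ (ev S.x w), e']
    group

theorem total_eq {w : List ℕ} (hl : ∀ g ∈ w, g < 12) {c : ℕ} (hc : c < 306936) {k : E}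
    (hk : V.π k = 1) (hw : ev S.x w = k) : S.total w c = k := by
  obtain ⟨hπ, hm⟩ := S.total_moves w hl c hc
  have hend : pathEnd Tab.data.T w c = c := by
    have h1 : ev gen w = 1 := by rw [← S.π_ev hl, hw, hk]
    have h2 := ev_node hl hc
    rw [h1, one_smul] at h2
    exact (node_inj h2).symm
  rw [hend] at hm
  exact S.move_unique hπ hk hm ⟨1, one_mem _, by rw [hw, mul_one]⟩

/-- the defect of the one inexact relator -/
def odd : E := (S.x 8 * S.x 11) ^ 3

theorem ev_rel : ∀ r < 79, ev S.x ((Tab.words.take 80).getD r []) = if r = 74 then S.odd else 1 := by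
  intro r hr
  have hform := (show ∀ r < 79, r = 74 ∨ r = 11 ∨
      (((Tab.words.take 80).getD r []).all (fun g => decide (g < 11)) = true) ∨
      ((Tab.words.take 80).getD r [] = expand ([11, 10], 3)) ∨
      ∃ h ∈ farList, (Tab.words.take 80).getD r [] = expand ([11, h], 2) by decide +kernel) r hr
  rcases hform with rfl | rfl | h | h | ⟨k, hk, h⟩
  · rw [if_pos rfl, show (Tab.words.take 80).getD 74 [] = expand ([11, 8], 3) by decide +kernel, ev_expand]
    simp [ev, odd]
  · rw [if_neg (by norm_num), show (Tab.words.take 80).getD 11 [] = [11, 11] by decide +kernel]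
    simp [ev, S.sq 11 (by norm_num)]
  · have hne : r ≠ 74 := by
      rintro rfl
      exact absurd h (by decide +kernel)
    rw [if_neg hne]
    simp only [List.all_eq_true, decide_eq_true_eq] at h
    have hmem : ((Tab.words.take 80).getD r []) ∈ Tab.words.take 80 := by
      rw [List.getD_eq_getElem _ _ (show r < (Tab.words.take 80).length by
        rw [show (Tab.words.take 80).length = 80 by decide +kernel]; omega)]
      exact List.getElem_mem _
    refine S.inj _ ?_ ?_
    · generalize (Tab.words.take 80).getD r [] = w at h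
      induction w with
      | nil => exact one_mem _
      | cons g w ih =>
        rw [ev]
        exact mul_mem (ih fun a ha => h a (List.mem_cons_of_mem _ ha))
          (Subgroup.subset_closure ⟨g, h g List.mem_cons_self, rfl⟩)
    · rw [S.π_ev fun g hg => lt_trans (h g hg) (by norm_num)]
      exact gen_rel hmem
  · have hne : r ≠ 74 := by
      rintro rfl
      exact absurd h (by decide +kernel)
    rw [if_neg hne, h, ev_expand]
    have h1 : (S.x 10 * S.x 11) = (S.x 11 * S.x 10)⁻¹ := by
      rw [mul_inv_rev, inv_eq_of_mul_eq_one_right (S.sq 10 (by norm_num)),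
        inv_eq_of_mul_eq_one_right (S.sq 11 (by norm_num))]
    simp only [ev, one_mul]
    rw [h1, inv_pow, S.link, inv_one]
  · have hne : r ≠ 74 := by
      rintro rfl
      exact absurd ⟨k, hk, h⟩ (show ¬∃ k ∈ farList, (Tab.words.take 80).getD 74 [] = expand ([11, k], 2) by
        decide +kernel)
    have hk12 : k < 12 := (show ∀ k ∈ farList, k < 12 by decide) k hk
    rw [if_neg hne, h, ev_expand, pow_two]
    simp only [ev, one_mul]
    rw [show S.x k * S.x 11 * (S.x k * S.x 11) = S.x k * (S.x 11 * S.x k * S.x 11) by group, S.far k hk,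
      S.sq k hk12]

theorem words_letters' : ∀ w ∈ Tab.words.take 80, ∀ g ∈ w, g < 12 :=
  fun w hw => Tab.words_letters w (List.mem_of_mem_take hw)

theorem word_letters {r : ℕ} (hr : r < 80) : ∀ g ∈ (Tab.words.take 80).getD r [], g < 12 := by
  rw [List.getD_eq_getElem _ _ (show r < (Tab.words.take 80).length by
    rw [show (Tab.words.take 80).length = 80 by decide +kernel]; omega)]
  exact words_letters' _ (List.getElem_mem _)

/-- the central word -/
noncomputable def central : E := ev S.x ((Tab.words.take 80).getD 79 [])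

theorem π_central : V.π S.central = 1 := by
  rw [central, S.π_ev (word_letters (by norm_num))]
  refine gen_rel ?_
  rw [List.getD_eq_getElem _ _ (show 79 < (Tab.words.take 80).length by decide +kernel)]
  exact List.getElem_mem _

theorem relations : S.odd = 1 ∧ V.tw S.central = S.central⁻¹ ∧ S.central ^ 3 = 1 := by
  letI : CommGroup V.π.ker := kerComm V
  let θ : Additive V.π.ker →+ Additive V.π.ker :=
    { toFun := fun a => Additive.ofMul (twK V a.toMul)
      map_zero' := by
        refine congrArg Additive.ofMul (Subtype.ext ?_)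
        show V.L' * 1 * V.L' = 1
        rw [mul_one, V.L'sq]
      map_add' := fun a b => congrArg Additive.ofMul (Subtype.ext (V.tw_mul _ _)) }
  let lab : ℕ → ℕ → Additive V.π.ker := fun g c => Additive.ofMul (S.label g c)
  have htot : ∀ (w : List ℕ) (c : ℕ), ((tot θ lab Tab.data.T w c).toMul : E) = S.total w c := by
    intro w
    induction w with
    | nil => intro c; rfl
    | cons g w ih =>
      intro c
      rw [tot, total, ← ih]
      unfold twn
      split <;> rfl
  have hinj : ∀ {a b : Additive V.π.ker}, (a.toMul : E) = (b.toMul : E) → a = b :=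
    fun h => Additive.toMul.injective (Subtype.ext h)
  let o : Additive V.π.ker := Additive.ofMul ⟨S.odd, S.π_odd⟩
  let D : Labels (Additive V.π.ker) Tab.data.T par (Tab.words.take 80) :=
    { θ := θ
      θθ := fun a => hinj (V.tw_tw _)
      lab := lab
      closed := fun g hg c hc => closed hg hc
      sym := fun g hg c hc => by
        refine hinj ?_
        have h := S.total_eq (w := [g, g]) (c := c) (by simp [hg]) hc (map_one _) (by simp [ev, S.sq g hg])
        rw [← htot] at h
        simpa [tot] using h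
      zero := fun g hg => by
        refine hinj (S.label_eq (lt_trans hg (by norm_num)) (by norm_num) (map_one _) ?_)
        refine ⟨S.x g, Subgroup.subset_closure ⟨g, hg, rfl⟩, ?_⟩
        rw [(show ∀ g < 11, Tab.data.T g 0 = 0 by decide +kernel) g hg]
        have h0 : S.rep 0 = 1 := by
          unfold rep
          rw [if_pos (by decide +kernel : pathOK Tab.data.T par 0 = true),
            show path Tab.data.T par 0 = [] by decide +kernel]
          rfl
        rw [h0, mul_one, mul_one]
        exact (one_mul _).symm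
      tree := fun g c hg hc h => by
        refine hinj (S.label_eq hg hc (map_one _) ?_)
        unfold treeOK at h
        simp only [Bool.and_eq_true, beq_iff_eq] at h
        obtain ⟨⟨h1, h2⟩, h3⟩ := h
        refine ⟨1, one_mem _, ?_⟩
        unfold rep
        rw [if_pos h1, if_pos h2, h3, ev_append]
        simp [ev]
      e := o
      two_e := hinj S.odd_sq
      θe := hinj S.odd_fix
      letters := words_letters'
      rel := fun r hr c hc => by
        refine hinj ?_
        rw [htot]
        have hk : V.π (if r = 74 then S.odd else 1) = 1 := by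
          split
          · exact S.π_odd
          · exact map_one _
        rw [S.total_eq (word_letters (by omega)) hc hk (S.ev_rel r hr)]
        split <;> rfl }
  obtain ⟨he, hθ, h3⟩ := deduce D (Additive.ofMul ⟨S.central, S.π_central⟩) fun c hc => hinj (by
    rw [htot, S.total_eq (word_letters (by norm_num)) hc S.π_central rfl]
    rfl)
  refine ⟨congrArg (fun a : Additive V.π.ker => (a.toMul : E)) he,
    congrArg (fun a : Additive V.π.ker => (a.toMul : E)) hθ, ?_⟩
  have h4 := congrArg (fun a : Additive V.π.ker => (a.toMul : E)) h3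
  simpa using h4

theorem generates : Subgroup.closure (S.x '' {g | g < 12}) = ⊤ := by
  set X := Subgroup.closure (S.x '' {g | g < 12}) with hX
  have hsur : ∀ y : E, ∃ a ∈ X, V.π a = V.π y := by
    intro y
    have h : V.π y ∈ X.map V.π := by
      have htop : X.map V.π = ⊤ := by
        rw [eq_top_iff, ← model.generates, hX, MonoidHom.map_closure]
        refine Subgroup.closure_mono ?_
        rintro _ ⟨g, hg, rfl⟩
        exact ⟨S.x g, ⟨g, hg, rfl⟩, S.πx g hg⟩
      rw [htop]; exact Subgroup.mem_top _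
    exact Subgroup.mem_map.1 h
  have hD : (commutator Cfsg.Spor.Fi24).comap V.π ≤ X := by
    refine V.perfect.trans (Subgroup.commutator_le.2 fun a ha b hb => ?_)
    obtain ⟨a', ha', hπa⟩ := hsur a
    obtain ⟨b', hb', hπb⟩ := hsur b
    have ka : V.π (a * a'⁻¹) = 1 := by rw [map_mul, map_inv, hπa, mul_inv_cancel]
    have kb : V.π (b * b'⁻¹) = 1 := by rw [map_mul, map_inv, hπb, mul_inv_cancel]
    obtain ⟨k, hk, rfl⟩ : ∃ k, V.π k = 1 ∧ a = k * a' := ⟨_, ka, by group⟩
    obtain ⟨l, hl, rfl⟩ : ∃ l, V.π l = 1 ∧ b = l * b' := ⟨_, kb, by group⟩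
    have pa : V.π a' ∈ commutator Cfsg.Spor.Fi24 := by rw [hπa]; exact ha
    have pb : V.π b' ∈ commutator Cfsg.Spor.Fi24 := by rw [hπb]; exact hb
    have c1 := V.cen k hk b' pb
    have c2 := V.cen l hl a' pa
    have c3 := V.comm_ker hk hl
    have e1 : k * a' * (l * b') = (k * l) * (a' * b') := by
      rw [mul_assoc k a', ← mul_assoc a' l, ← c2]; group
    have e2 : l * b' * (k * a') = (k * l) * (b' * a') := by
      rw [mul_assoc l b', ← mul_assoc b' k, ← c1, c3]; group
    have key : ⁅k * a', l * b'⁆ = ⁅a', b'⁆ := by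
      have h1 : ⁅k * a', l * b'⁆ = (k * a' * (l * b')) * (l * b' * (k * a'))⁻¹ := by
        rw [commutatorElement_def]; group
      have hkl : V.π (k * l) = 1 := by rw [map_mul, hk, hl, mul_one]
      have c4 := V.cen _ hkl (a' * b' * (b' * a')⁻¹) (by
        rw [map_mul, map_inv, map_mul, map_mul]
        exact mul_mem (mul_mem pa pb) (inv_mem (mul_mem pb pa)))
      rw [h1, e1, e2, mul_inv_rev, commutatorElement_def]
      calc k * l * (a' * b') * ((b' * a')⁻¹ * (k * l)⁻¹)
          = (k * l) * (a' * b' * (b' * a')⁻¹) * (k * l)⁻¹ := by group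
        _ = a' * b' * (b' * a')⁻¹ * (k * l) * (k * l)⁻¹ := by rw [c4]
        _ = a' * b' * a'⁻¹ * b'⁻¹ := by group
    rw [key, commutatorElement_def]
    exact mul_mem (mul_mem (mul_mem ha' hb') (inv_mem ha')) (inv_mem hb')
  rw [eq_top_iff]
  intro y _
  obtain ⟨a, ha, hπ⟩ := hsur y
  have : a⁻¹ * y ∈ X := hD (by
    rw [Subgroup.mem_comap, map_mul, map_inv, hπ, inv_mul_cancel]
    exact one_mem _)
  simpa using mul_mem ha this

theorem kernel_cyclic {k : E} (hk : V.π k = 1) : k ∈ Subgroup.zpowers S.central := by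
  obtain ⟨ho, hθ, -⟩ := S.relations
  set N := Subgroup.zpowers S.central with hN
  have hnormal : N.Normal := by
    have hle : Subgroup.closure (S.x '' {g | g < 12}) ≤ Subgroup.normalizer (N : Set E) := by
      rw [Subgroup.closure_le]
      rintro _ ⟨g, hg, rfl⟩
      have key : ∀ n ∈ N, S.x g * n * (S.x g)⁻¹ ∈ N := by
        intro n hn
        obtain ⟨i, rfl⟩ := Subgroup.mem_zpowers_iff.1 hn
        rw [← conj_zpow, S.pass hg S.π_central, mul_inv_cancel_right, hθ]
        exact Subgroup.zpow_mem _ (inv_mem (Subgroup.mem_zpowers _)) i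
      rw [SetLike.mem_coe, Subgroup.mem_normalizer_iff]
      intro n
      refine ⟨key n, fun h => ?_⟩
      have h2 := key _ h
      rw [inv_eq_of_mul_eq_one_right (S.sq g hg)] at h2
      rw [show S.x g * (S.x g * n * S.x g) * S.x g = (S.x g * S.x g) * n * (S.x g * S.x g) by group,
        S.sq g hg, one_mul, mul_one] at h2
      exact h2
    exact Subgroup.normalizer_eq_top_iff.1 (top_le_iff.1 (S.generates ▸ hle))
  let q := QuotientGroup.mk' N
  have hrel : ∀ w ∈ Tab.words.take 80, q (ev S.x w) = 1 := by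
    intro w hw
    obtain ⟨r, hr, rfl⟩ := List.mem_iff_getElem.1 hw
    have hlen : (Tab.words.take 80).length = 80 := by decide +kernel
    rw [← List.getD_eq_getElem _ [] hr]
    rcases Nat.lt_or_ge r 79 with h | h
    · rw [S.ev_rel r h, ho]
      simp
    · obtain rfl : r = 79 := by omega
      exact (QuotientGroup.eq_one_iff _).2 (Subgroup.mem_zpowers _)
  have hqinv : ∀ g < 12, q (S.x g) * q (S.x g) = 1 := fun g hg => by rw [← map_mul, S.sq g hg, map_one]
  have hpres : ∀ r ∈ Cfsg.Spor.coxRelators Cfsg.Spor.Fi24.edges ∪ {r | r ∈ Cfsg.Spor.Fi24.extra},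
      FreeGroup.lift (fun a => q (S.x (ix a))) r = 1 := by
    intro r hr
    rw [lift_eq_ev _ (fun g => q (S.x g)) ix (fun _ => rfl) (fun a => hqinv _ (fit.ix_lt a))]
    have key : ∀ w ∈ Tab.words.take 80, ev (fun g => q (S.x g)) w = 1 := fun w hw => by
      rw [← H47.Y555.ev_map q S.x w]; exact hrel w hw
    rcases fit.relCover r (mem_relList.mpr hr) with h | h
    · exact key _ h
    · have h1 := key _ h
      rw [ev_reverse (fun g => q (S.x g)) (m := 12) hqinv _ (fun g hg => ?_), inv_eq_one] at h1
      · exact h1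
      · exact fit.tables.mem_letters _ (List.mem_of_mem_take h) g (by simpa using hg)
  let F := PresentedGroup.toGroup hpres
  have hF : ∀ y : E, F (V.π y) = q y := by
    intro y
    have : Subgroup.closure (S.x '' {g | g < 12}) ≤ MonoidHom.eqLocus (F.comp V.π) q := by
      rw [Subgroup.closure_le]
      rintro _ ⟨g, hg, rfl⟩
      show F (V.π (S.x g)) = q (S.x g)
      obtain ⟨a, rfl⟩ := fit.exists_ix (g := g) hg
      rw [S.πx _ hg, show gen (ix a) = PresentedGroup.of a from fit.gen_ix a, PresentedGroup.toGroup.of]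
    exact this (S.generates ▸ Subgroup.mem_top y)
  exact (QuotientGroup.eq_one_iff k).1 ((hF k).symm.trans (by rw [hk, map_one]))

end Sys

/-- The kernel of a cover is cyclic of order dividing 3. -/
theorem Cover.kernel_small {E : Type} [Group E] [Finite E] (V : Cover E) :
    ∃ z, V.π z = 1 ∧ z ^ 3 = 1 ∧ ∀ k, V.π k = 1 → k ∈ Subgroup.zpowers z := by
  obtain ⟨S⟩ := V.exists_sys
  exact ⟨S.central, S.π_central, S.relations.2.2, fun _ hk => S.kernel_cyclic hk⟩

end H15.Fi24Up
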